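import Groth.Agent.CurvesB.OmegaDer
import Groth.Prelude.Def_Omega4

/-!
# The frozen derivation `OmegaSh.dOmega f` is the derivation `CurvesB.OmegaDer.d f`
-/

set_option autoImplicit false
universe u
open CategoryTheory CategoryTheory.Limits AlgebraicGeometry Opposite TopologicalSpace

namespace K853.OmegaBridge

open Groth.Agent.CurvesB.OmegaDer Groth.Agent.VarietyB

variable {X Y : Scheme.{u}} (f : X ⟶ Y) [QuasiSeparated f]

theorem dOmega_app_eq (W : X.Opens) (s : Γ(X, W)) : (OmegaSh.dOmega f).app W s = d f W s := by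
  have h1 : valₗ f W (OmegaSh.idealLift f W s) = p₂ f W s - p₁ f W s :=
    OmegaSh.ι_idealLift f W s
  rw [d_eq f W s (OmegaSh.idealLift f W s) h1]
  rfl

end K853.OmegaBridge
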