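import Mathlib.Algebra.Module.Submodule.Map
import Mathlib.LinearAlgebra.Quotient.Basic
import Mathlib.LinearAlgebra.Isomorphisms

/-!
# Cohomology of a sequence of linear maps `G 0 → G 1 → G 2 → …`

`Z d n` cocycles, `B d n` coboundaries, `H d n = Z / (B ∩ Z)`.
* `equivOfSurj`: a surjective linear map from the cocycles with kernel the coboundaries gives `H d n ≃ E`;
* `congr`: isomorphic sequences have isomorphic cohomology.
-/

set_option autoImplicit false

namespace K853.SeqCoh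

variable {R : Type*} [Ring R] {G : ℕ → Type*} [∀ p, AddCommGroup (G p)] [∀ p, Module R (G p)]

/-- cocycles -/
def Z (d : ∀ p, G p →ₗ[R] G (p + 1)) (n : ℕ) : Submodule R (G n) := LinearMap.ker (d n)

/-- coboundaries -/
def B (d : ∀ p, G p →ₗ[R] G (p + 1)) : (n : ℕ) → Submodule R (G n)
  | 0 => ⊥
  | n + 1 => LinearMap.range (d n)

theorem mem_Z_iff {d : ∀ p, G p →ₗ[R] G (p + 1)} {n : ℕ} {x : G n} : x ∈ Z d n ↔ d n x = 0 := Iff.rfl

theorem mem_B_succ_iff {d : ∀ p, G p →ₗ[R] G (p + 1)} {n : ℕ} {x : G (n + 1)} :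
    x ∈ B d (n + 1) ↔ ∃ y, d n y = x := Iff.rfl

theorem mem_B_zero_iff {d : ∀ p, G p →ₗ[R] G (p + 1)} {x : G 0} : x ∈ B d 0 ↔ x = 0 := Iff.rfl

/-- The cohomology of the sequence `d` in degree `n`. -/
abbrev H (d : ∀ p, G p →ₗ[R] G (p + 1)) (n : ℕ) : Type _ := (Z d n) ⧸ (B d n).submoduleOf (Z d n)

theorem mk_eq_zero_iff {d : ∀ p, G p →ₗ[R] G (p + 1)} {n : ℕ} (x : Z d n) :
    (Submodule.Quotient.mk x : H d n) = 0 ↔ x.1 ∈ B d n := by
  rw [Submodule.Quotient.mk_eq_zero]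
  rfl

/-- The universal property of cohomology: `H d n ≃ E`. -/
noncomputable def equivOfSurj {E : Type*} [AddCommGroup E] [Module R E]
    (d : ∀ p, G p →ₗ[R] G (p + 1)) (n : ℕ) (φ : Z d n →ₗ[R] E) (hs : Function.Surjective φ)
    (hk : ∀ x : Z d n, φ x = 0 ↔ x.1 ∈ B d n) : H d n ≃ₗ[R] E :=
  (Submodule.quotEquivOfEq _ _ (by
    ext x
    rw [LinearMap.mem_ker, hk x]
    rfl)).trans (φ.quotKerEquivOfSurjective hs)

variable {G' : ℕ → Type*} [∀ p, AddCommGroup (G' p)] [∀ p, Module R (G' p)]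

/-- Isomorphic sequences have isomorphic cohomology. -/
theorem nonempty_congr {d : ∀ p, G p →ₗ[R] G (p + 1)} {d' : ∀ p, G' p →ₗ[R] G' (p + 1)}
    (e : ∀ p, G p ≃ₗ[R] G' p) (he : ∀ p x, e (p + 1) (d p x) = d' p (e p x)) (n : ℕ) :
    Nonempty (H d n ≃ₗ[R] H d' n) := by
  have h1 : ∀ x, x ∈ Z d n ↔ e n x ∈ Z d' n := fun x => by
    rw [mem_Z_iff, mem_Z_iff, ← he, LinearEquiv.map_eq_zero_iff]
  have h2 : ∀ x, x ∈ B d n ↔ e n x ∈ B d' n := fun x => by
    cases n with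
    | zero => rw [mem_B_zero_iff, mem_B_zero_iff, LinearEquiv.map_eq_zero_iff]
    | succ n =>
      rw [mem_B_succ_iff, mem_B_succ_iff]
      constructor
      · rintro ⟨y, rfl⟩
        exact ⟨e n y, (he n y).symm⟩
      · rintro ⟨y, hy⟩
        refine ⟨(e n).symm y, (e (n + 1)).injective ?_⟩
        rw [he, LinearEquiv.apply_symm_apply, hy]
  let ψ : Z d n →ₗ[R] H d' n := (Submodule.mkQ _).comp
    (LinearMap.codRestrict (Z d' n) ((e n).toLinearMap.comp (Z d n).subtype) fun x => (h1 x.1).mp x.2)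
  refine ⟨equivOfSurj d n ψ (fun y => ?_) fun x => ?_⟩
  · obtain ⟨y, rfl⟩ := Submodule.Quotient.mk_surjective _ y
    refine ⟨⟨(e n).symm y.1, (h1 _).mpr (by rw [LinearEquiv.apply_symm_apply]; exact y.2)⟩, ?_⟩
    change Submodule.Quotient.mk _ = Submodule.Quotient.mk _
    congr 1
    exact Subtype.ext ((e n).apply_symm_apply y.1)
  · rw [h2]
    exact mk_eq_zero_iff (d := d') _

end K853.SeqCoh
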