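import Groth.Agent.DeRham.K852.Maps
import Groth.Agent.Lefpen.H721.OmegaPow
import Groth.Agent.DeRhamSh.K853.SeqCoh
import Mathlib.Algebra.Homology.ShortComplex.ModuleCat

/-!
# Ring-level de Rham complexes

* `exists_linear`: an additive family satisfying the rule on generators is a de Rham family over the base ring;
* `rule_unique`: uniqueness of de Rham families;
* `nonempty_H_equiv`: `DeRham.H hd n` is cocycles modulo coboundaries;
* `nonempty_congr_algEquiv`: isomorphic algebras have isomorphic de Rham cohomology.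
-/

set_option autoImplicit false

universe v u

open exteriorPower

namespace K853.RingCx

open K852.DR

section

variable {R : Type v} {A M : Type u} [CommRing R] [CommRing A] [Algebra R A]
  [AddCommGroup M] [Module A M] [Module R M] [IsScalarTower R A M]
  {δ : Derivation R A M}

/-- An additive family with the values of the rule on generators is linear over the base ring. -/
theorem exists_linear (hgen : Submodule.span A (Set.range δ) = ⊤)
    (d : ∀ p : ℕ, ↥(⋀[A]^p M) →+ ↥(⋀[A]^(p + 1) M))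
    (h : ∀ (p : ℕ) (b₀ : A) (b : Fin p → A), d p (DeRham.gen δ p b₀ b) =
      ιMulti A (p + 1) (Fin.cons (δ b₀) (fun i => δ (b i)))) :
    ∃ d' : ∀ p : ℕ, ↥(⋀[A]^p M) →ₗ[R] ↥(⋀[A]^(p + 1) M), (∀ p x, d' p x = d p x) ∧ DeRham.IsDiff δ d' := by
  have hs : ∀ (p : ℕ) (r : R) (x : ↥(⋀[A]^p M)), d p (r • x) = r • d p x := by
    intro p r x
    refine gen_induction δ hgen p (P := fun x => d p (r • x) = r • d p x) ?_ ?_ ?_ ?_ x
    · intro b₀ b
      have h1 : r • DeRham.gen δ p b₀ b = DeRham.gen δ p (r • b₀) b := by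
        rw [DeRham.gen, DeRham.gen, smul_assoc]
      rw [h1, h, h, Derivation.map_smul, ιMulti_cons, ιMulti_cons, ← algebraMap_smul A r (δ b₀), map_smul,
        LinearMap.smul_apply, algebraMap_smul]
    · simp
    · intro x y hx hy; rw [smul_add, map_add, hx, hy, map_add, smul_add]
    · intro x hx; rw [smul_neg, map_neg, hx, map_neg, smul_neg]
  exact ⟨fun p => { toFun := d p, map_add' := map_add (d p), map_smul' := hs p }, fun p x => rfl,
    isDiff_of_isRule hgen fun p b₀ b => h p b₀ b⟩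

theorem rule_unique (hgen : Submodule.span A (Set.range δ) = ⊤)
    {d d' : ∀ p : ℕ, ↥(⋀[A]^p M) →ₗ[R] ↥(⋀[A]^(p + 1) M)} (hd : DeRham.IsRule δ d) (hd' : DeRham.IsRule δ d')
    (p : ℕ) (x : ↥(⋀[A]^p M)) : d p x = d' p x :=
  DFunLike.congr_fun (gen_ext δ hgen p (d p).toAddMonoidHom (d' p).toAddMonoidHom
    fun b₀ b => (hd p b₀ b).trans (hd' p b₀ b).symm) x

theorem cocycles_eq (d : ∀ p : ℕ, ↥(⋀[A]^p M) →ₗ[R] ↥(⋀[A]^(p + 1) M)) (n : ℕ) :
    DeRham.cocycles d n = SeqCoh.Z d n := rfl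

theorem coboundaries_eq (d : ∀ p : ℕ, ↥(⋀[A]^p M) →ₗ[R] ↥(⋀[A]^(p + 1) M)) (n : ℕ) :
    DeRham.coboundaries d n = SeqCoh.B d n := by
  cases n <;> rfl

end

section H

open CategoryTheory

/-- Homology of a complex of modules in degree `j` is cocycles modulo coboundaries. -/
theorem nonempty_homology_equiv {R : Type v} [Ring R] {ι : Type*} {c : ComplexShape ι}
    (K : HomologicalComplex (ModuleCat.{u} R) c) {i j k : ι} (hi : c.prev j = i) (hk : c.next j = k) :
    Nonempty ((LinearMap.ker (K.d j k).hom ⧸ (LinearMap.range (K.d i j).hom).submoduleOf (LinearMap.ker (K.d j k).hom))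
      ≃ₗ[R] K.homology j) := by
  subst hi hk
  refine ⟨(Submodule.quotEquivOfEq _ _ ?_).trans ((K.sc j).moduleCatHomologyIso).toLinearEquiv.symm⟩
  ext x
  change (∃ y, (K.d (c.prev j) j).hom y = x.1) ↔ ∃ y, (K.sc j).moduleCatToCycles y = x
  exact exists_congr fun y => ⟨fun h => Subtype.ext h, fun h => congrArg Subtype.val h⟩

/-- The cohomology of a complex of modules. -/
theorem nonempty_seqCoh_equiv {R : Type v} [Ring R] (K : CochainComplex (ModuleCat.{u} R) ℕ) (n : ℕ) :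
    Nonempty (SeqCoh.H (fun p => (K.d p (p + 1)).hom) n ≃ₗ[R] K.homology n) := by
  cases n with
  | zero =>
    obtain ⟨e⟩ := nonempty_homology_equiv K (i := 0) (j := 0) (k := 1) (by simp) (by simp)
    refine ⟨(Submodule.quotEquivOfEq _ _ ?_).trans e⟩
    have h0 : K.d 0 0 = 0 := K.shape _ _ (by simp)
    rw [h0]
    ext x
    change x.1 = 0 ↔ ∃ y, (0 : K.X 0 ⟶ K.X 0).hom y = x.1
    constructor
    · intro h
      exact ⟨0, by rw [map_zero]; exact h.symm⟩
    · rintro ⟨y, hy⟩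
      exact hy.symm
  | succ n => exact nonempty_homology_equiv K (i := n) (j := n + 1) (k := n + 1 + 1) (by simp) (by simp)

variable {R : Type u} {A M : Type u} [CommRing R] [CommRing A] [Algebra R A]
  [AddCommGroup M] [Module A M] [Module R M] [IsScalarTower R A M]
  {δ : Derivation R A M} {d : ∀ p : ℕ, ↥(⋀[A]^p M) →ₗ[R] ↥(⋀[A]^(p + 1) M)}

/-- The frozen cohomology is cocycles modulo coboundaries. -/
theorem nonempty_H_equiv (hd : DeRham.IsDiff δ d) (n : ℕ) : Nonempty (SeqCoh.H d n ≃ₗ[R] ↑(DeRham.H hd n)) := by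
  have hdn : ∀ p : ℕ, (DeRham.cx hd).d p (p + 1) = ModuleCat.ofHom (d p) := fun p =>
    CochainComplex.of_d (fun p => ModuleCat.of R ↥(⋀[A]^p M)) (fun p => ModuleCat.ofHom (d p)) p
  obtain ⟨e⟩ := nonempty_seqCoh_equiv (DeRham.cx hd) n
  obtain ⟨e'⟩ := SeqCoh.nonempty_congr (G := fun p => ↥(⋀[A]^p M)) (G' := fun p => ↑((DeRham.cx hd).X p)) (d := d)
    (d' := fun p => ((DeRham.cx hd).d p (p + 1)).hom) (fun p => LinearEquiv.refl R ↥(⋀[A]^p M)) (fun p x => by
      rw [hdn]; rfl) n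
  exact ⟨e'.trans e⟩

end H

section Transport

open Groth.Agent.Lefpen.H721.OmegaPow

variable {R : Type v} {A : Type u} {B : Type*} [CommRing R] [CommRing A] [Algebra R A] [CommRing B] [Algebra R B]
  {d : ∀ p : ℕ, ↥(⋀[A]^p (Ω[A⁄R])) →ₗ[R] ↥(⋀[A]^(p + 1) (Ω[A⁄R]))}
  {d' : ∀ p : ℕ, ↥(⋀[B]^p (Ω[B⁄R])) →ₗ[R] ↥(⋀[B]^(p + 1) (Ω[B⁄R]))}

/-- Homomorphisms of algebras commute with the de Rham differentials. -/
theorem powS_comm (φ : A →ₐ[R] B) (hd : DeRham.IsRule (KaehlerDifferential.D R A) d)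
    (hd' : DeRham.IsRule (KaehlerDifferential.D R B) d') (p : ℕ) (x : ↥(⋀[A]^p (Ω[A⁄R]))) :
    powS φ (p + 1) (d p x) = d' p (powS φ p x) :=
  isCxMap_comm (kaehler_span R A) hd hd' (isCxMap_psi (δ := KaehlerDifferential.D R A)
    (δ' := KaehlerDifferential.D R B) (omS φ) (omS_D φ)) p x

theorem nonempty_congr_algEquiv (e : A ≃ₐ[R] B) (hd : DeRham.IsRule (KaehlerDifferential.D R A) d)
    (hd' : DeRham.IsRule (KaehlerDifferential.D R B) d') (n : ℕ) :
    Nonempty (SeqCoh.H d n ≃ₗ[R] SeqCoh.H d' n) :=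
  SeqCoh.nonempty_congr (fun p => powE e p) (fun p x => powS_comm (e : A →ₐ[R] B) hd hd' p x) n

end Transport

end K853.RingCx
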