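import Groth.Agent.DeRhamSh.K853.SiteModel
import Groth.Agent.DeRhamSh.K853.RingCx
import Groth.Agent.DeRhamSh.K853.OmegaBridge
import Groth.Agent.Fga.PicTanSheaf
import Groth.Agent.Lefpen.H721.OmegaSec
import Groth.Prelude.Def_DeRham2

/-!
# A de Rham complex of the differentials of `f : X ⟶ Spec A` over affine opens

For `D : DeRhamSh.OmegaCx f` and `W ⊆ X` affine:
* `exists_ringModel`: the complex of sections over `W` is the ring-level de Rham complex of `Γ(X, W)` over `A`;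
* `termwiseLinear`: the differentials are `A`-linear.
-/

set_option autoImplicit false

universe w u

open CategoryTheory CategoryTheory.Limits AlgebraicGeometry Opposite TopologicalSpace exteriorPower

namespace K853.CxAff

open Groth.Agent.Lefpen.H721.OmegaSec Groth.Agent.Lefpen.H721.OmegaPow Groth.Agent.CurvesB.OmegaStalkDict
open Groth.Agent.Fga.PicTanSheaf

variable {A : Type u} [CommRing A] {X : Scheme.{u}} (f : X ⟶ Spec (CommRingCat.of A))

/-- The differential on sections. -/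
noncomputable def dSec {S : Scheme.{u}} {f : X ⟶ S} {Ω' : X.Modules} {δ : OmegaSh.Der f Ω'}
    (D : DeRhamSh.Cx f Ω' δ) (W : X.Opens) (p : ℕ) : Γ(D.term p, W) →+ Γ(D.term (p + 1), W) :=
  SiteModel.dS D.K (fun p => Coh.toAb (D.term p)) D.iso W p

theorem dSec_apply {S : Scheme.{u}} {f : X ⟶ S} {Ω' : X.Modules} {δ : OmegaSh.Der f Ω'}
    (D : DeRhamSh.Cx f Ω' δ) (W : X.Opens) (p : ℕ) (x : Γ(D.term p, W)) :
    dSec D W p x = (D.iso (p + 1)).hom.hom.app (op W) ((D.K.d p (p + 1)).hom.app (op W)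
      ((D.iso p).inv.hom.app (op W) x)) := rfl

theorem iso_inv_hom {S : Scheme.{u}} {f : X ⟶ S} {Ω' : X.Modules} {δ : OmegaSh.Der f Ω'}
    (D : DeRhamSh.Cx f Ω' δ) (W : X.Opens) (p : ℕ) (x : Γ(D.term p, W)) :
    (D.iso p).hom.hom.app (op W) ((D.iso p).inv.hom.app (op W) x) = x :=
  congr($(((D.iso p).inv_hom_id)).hom.app (op W) x)

theorem dSec_rule {S : Scheme.{u}} {f : X ⟶ S} {Ω' : X.Modules} {δ : OmegaSh.Der f Ω'}
    (D : DeRhamSh.Cx f Ω' δ) (W : X.affineOpens) (p : ℕ) (b₀ : Γ(X, W.1)) (b : Fin p → Γ(X, W.1)) :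
    dSec D W.1 p ((D.loc p W).symm (b₀ • ιMulti _ p (fun i => δ.app W.1 (b i)))) =
      (D.loc (p + 1) W).symm (ιMulti _ (p + 1) (Fin.cons (δ.app W.1 b₀) (fun i => δ.app W.1 (b i)))) := by
  rw [dSec_apply, D.rule p W b₀ b, iso_inv_hom]

variable [QuasiSeparated f] (D : DeRhamSh.OmegaCx f)

/-- **The ring-level model** of the complex of sections over an affine open. -/
theorem exists_ringModel (W : X.affineOpens) :
    ∃ (e : ∀ p, Γ(D.term p, W.1) ≃+ ↥(⋀[SA f W.1]^p (Ω[SA f W.1⁄A])))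
      (d : ∀ p : ℕ, ↥(⋀[SA f W.1]^p (Ω[SA f W.1⁄A])) →ₗ[A] ↥(⋀[SA f W.1]^(p + 1) (Ω[SA f W.1⁄A]))),
      DeRham.IsDiff (KaehlerDifferential.D A (SA f W.1)) d ∧
      (∀ p x, e (p + 1) (dSec D W.1 p x) = d p (e p x)) ∧
      ∀ (p : ℕ) (s : SA f W.1) (x : Γ(D.term p, W.1)), e p (s • x) = s • e p x := by
  have : QuasiCompact (pullback.diagonal f) := inferInstance
  choose E hE using fun p => exists_ext_equiv f (j := p) (L := D.term p) (D.loc p) W
  have hgen : Submodule.span (SA f W.1) (Set.range (KaehlerDifferential.D A (SA f W.1))) = ⊤ :=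
    KaehlerDifferential.span_range_derivation A (SA f W.1)
  have hb : ∀ s : Γ(X, W.1), (OmegaSh.dOmega f).app W.1 s = Groth.Agent.CurvesB.OmegaDer.d f W.1 s :=
    OmegaBridge.dOmega_app_eq f W.1
  have hE' : ∀ (p : ℕ) (b₀ : Γ(X, W.1)) (b : Fin p → Γ(X, W.1)),
      E p (DeRham.gen (KaehlerDifferential.D A (SA f W.1)) p b₀ b) =
        (D.loc p W).symm (b₀ • ιMulti Γ(X, W.1) p (fun i => (OmegaSh.dOmega f).app W.1 (b i))) := by
    intro p b₀ b
    simp only [hb]
    have key : ∀ c : SA f W.1, E p (c • ιMulti (SA f W.1) p (fun i => KaehlerDifferential.D A (SA f W.1) (b i))) =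
        c • E p (ιMulti (SA f W.1) p (fun i => KaehlerDifferential.D A (SA f W.1) (b i))) :=
      fun c => map_smul (E p) c _
    refine (key b₀).trans ?_
    rw [hE, map_smul]
    rfl
  have hE1 : ∀ (p : ℕ) (b₀ : Γ(X, W.1)) (b : Fin p → Γ(X, W.1)),
      (E (p + 1)).symm ((D.loc (p + 1) W).symm (ιMulti Γ(X, W.1) (p + 1)
        (Fin.cons ((OmegaSh.dOmega f).app W.1 b₀) (fun i => (OmegaSh.dOmega f).app W.1 (b i))))) =
      ιMulti (SA f W.1) (p + 1) (Fin.cons (KaehlerDifferential.D A (SA f W.1) b₀)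
        (fun i => KaehlerDifferential.D A (SA f W.1) (b i))) := by
    intro p b₀ b
    rw [LinearEquiv.symm_apply_eq]
    have h1 := hE (p + 1) (Fin.cons b₀ b : Fin (p + 1) → Γ(X, W.1))
    have h2 : (fun l : Fin (p + 1) => KaehlerDifferential.D A (SA f W.1) ((Fin.cons b₀ b : Fin (p + 1) → Γ(X, W.1)) l)) =
        Fin.cons (KaehlerDifferential.D A (SA f W.1) b₀) (fun i => KaehlerDifferential.D A (SA f W.1) (b i)) := by
      funext l
      refine Fin.cases ?_ (fun i => ?_) l <;> rfl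
    have h3 : (fun l : Fin (p + 1) => (Groth.Agent.CurvesB.OmegaDer.d f W.1
        ((Fin.cons b₀ b : Fin (p + 1) → Γ(X, W.1)) l) : Γ(Omega.sheaf f, W.1))) =
        Fin.cons ((OmegaSh.dOmega f).app W.1 b₀) (fun i => (OmegaSh.dOmega f).app W.1 (b i)) := by
      funext l
      refine Fin.cases ?_ (fun i => ?_) l
      · exact (hb b₀).symm
      · exact (hb (b i)).symm
    rw [h2] at h1
    rw [h1]
    exact congrArg (fun z => (D.loc (p + 1) W).symm (ιMulti Γ(X, W.1) (p + 1) z)) h3.symm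
  obtain ⟨d, hd, hd'⟩ := RingCx.exists_linear (R := A) hgen
    (fun p => (E (p + 1)).symm.toLinearMap.toAddMonoidHom.comp ((dSec D W.1 p).comp (E p).toLinearMap.toAddMonoidHom))
    (fun p b₀ b => by
      change (E (p + 1)).symm (dSec D W.1 p (E p _)) = _
      rw [hE' p b₀ b]
      have h1 := dSec_rule D W p b₀ b
      exact (congrArg (E (p + 1)).symm h1).trans (hE1 p b₀ b))
  refine ⟨fun p => (E p).symm.toAddEquiv, d, hd', fun p x => ?_, fun p s x => map_smul (E p).symm s x⟩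
  change (E (p + 1)).symm _ = d p ((E p).symm x)
  rw [hd p]
  change _ = (E (p + 1)).symm (dSec D W.1 p (E p ((E p).symm x)))
  rw [LinearEquiv.apply_symm_apply]

theorem res_toGlobal (W : X.Opens) (a : A) : (X.presheaf.map (homOfLE (le_top (a := W))).op (Coh.toGlobal f a)) =
    algebraMap A (SA f W) a := by
  rw [algebraMap_SA, secHom_eq]
  rfl

/-- Scalars of the base ring on sections. -/
theorem smulAb_app_eq (M : X.Modules) (W : X.Opens) (a : A) (x : Γ(M, W)) :
    (Coh.smulAb M (Coh.toGlobal f a)).hom.app (op W) x = (algebraMap A (SA f W) a) • x := by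
  rw [← res_toGlobal]
  rfl

theorem dSec_smul (W : X.affineOpens) (p : ℕ) (a : A) (x : Γ(D.term p, W.1)) :
    dSec D W.1 p ((algebraMap A (SA f W.1) a) • x) = (algebraMap A (SA f W.1) a) • dSec D W.1 p x := by
  obtain ⟨e, d, hd, he, hs⟩ := exists_ringModel f D W
  apply (e (p + 1)).injective
  rw [he, hs, hs, he, algebraMap_smul, algebraMap_smul, map_smul]

/-- **The differentials of a de Rham complex over `Spec A` are `A`-linear.** -/
theorem termwiseLinear : KLinDR.TermwiseLinear (Coh.toGlobal f) D.K D.term D.iso := by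
  intro a p
  rw [← cancel_mono (D.iso (p + 1)).hom, ← cancel_epi (D.iso p).inv]
  apply hom_ext_affine
  intro W hW x
  have h1 := dSec_smul f D ⟨W, hW⟩ p a x
  have h2 : ap ((D.iso p).inv ≫ (D.K.d p (p + 1) ≫ KLinDR.scalarEnd (Coh.toGlobal f) D.term D.iso a (p + 1)) ≫
      (D.iso (p + 1)).hom) W x = (algebraMap A (SA f W) a) • dSec D W p x := by
    have h3 : (D.iso p).inv ≫ (D.K.d p (p + 1) ≫ KLinDR.scalarEnd (Coh.toGlobal f) D.term D.iso a (p + 1)) ≫
      (D.iso (p + 1)).hom = ((D.iso p).inv ≫ D.K.d p (p + 1) ≫ (D.iso (p + 1)).hom) ≫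
        Coh.smulAb (D.term (p + 1)) (Coh.toGlobal f a) := by
      simp [KLinDR.scalarEnd]
    rw [h3]
    exact smulAb_app_eq f _ W a _
  have h4 : ap ((D.iso p).inv ≫ (KLinDR.scalarEnd (Coh.toGlobal f) D.term D.iso a p ≫ D.K.d p (p + 1)) ≫
      (D.iso (p + 1)).hom) W x = dSec D W p ((algebraMap A (SA f W) a) • (show Γ(D.term p, W) from x)) := by
    have h3 : (D.iso p).inv ≫ (KLinDR.scalarEnd (Coh.toGlobal f) D.term D.iso a p ≫ D.K.d p (p + 1)) ≫
      (D.iso (p + 1)).hom = Coh.smulAb (D.term p) (Coh.toGlobal f a) ≫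
        ((D.iso p).inv ≫ D.K.d p (p + 1) ≫ (D.iso (p + 1)).hom) := by
      simp [KLinDR.scalarEnd]
    rw [h3, ← smulAb_app_eq f _ W a x]
    rfl
  rw [h2, h4, h1]

end K853.CxAff
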