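import Groth.Prelude.Def_DeRham2
import Groth.Agent.Krr.H502.KosZero
import Groth.Agent.Dual.H339.OmegaRank
import Groth.Agent.Dual.H328.ClopenGlue
import Groth.Agent.Dual.H366.ExtQCoh
import Groth.Agent.UnramA.SmoothFibreDim
import Groth.Agent.Sga7.H620.DimSmooth
import Groth.Agent.PerfA.QCohEpi
import Groth.Agent.CohqB.DevSupport

/-!
# The terms of a de Rham complex of a smooth scheme over a field

* `exists_chart`: locally the differentials are free of rank the local dimension;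
* `isFinLocFree_omega`, `isQCoh_omega`, `isFinLocFree_term`, `isQCoh_term`;
* `isZero_term`: the `p`-th term vanishes when `p` is greater than the dimension.
-/

set_option autoImplicit false

universe u

open CategoryTheory CategoryTheory.Limits AlgebraicGeometry Opposite TopologicalSpace
open Groth.Agent
open Groth.Agent.Sga67.Sec Groth.Agent.Sga67.LocBasis Groth.Agent.Sga67.ExtSheaf
open Groth.Agent.Dual.H339.OmegaRank Groth.Agent.PerfA.TildeModel Groth.Agent.PerfA.TildeRes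
open Groth.Agent.Sga67.SymKoszulAlg Groth.Agent.Krr.H502.KosExt Groth.Agent.Krr.H502.KosSheaf
  Groth.Agent.Krr.H502.KosChart Groth.Agent.Krr.H502.MkRes

namespace K853.Terms

/-- High exterior powers vanish, local form. -/
theorem isZero_of_isExtPow {X : Scheme.{u}} {k : ℕ} {E L : X.Modules}
    (hE : ∀ x : X, ∃ (d : ℕ) (V : X.Opens), x ∈ V ∧ d < k ∧ Nonempty (E.restrict V.ι ≅ FlatMod.freeMod (↑V) d))
    (hL : ExtPow.IsExtPow k E L) : IsZero L := by
  obtain ⟨φ, hφ⟩ := exists_phi hL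
  rw [IsZero.iff_id_eq_zero]
  apply hom_ext_of_locally
  intro x U hx
  obtain ⟨d, V, hxV, hk, hn⟩ := hE x
  obtain ⟨b, hb⟩ := nonempty_restrict_iso_iff.mp hn
  obtain ⟨_, ⟨W, rfl⟩, hxW, hW⟩ := Opens.isBasis_iff_nbhd.mp (affineBasis X) (show x ∈ U ⊓ V from ⟨hx, hxV⟩)
  refine ⟨W.1, hW.trans inf_le_left, hxW, fun s => ?_⟩
  have h1 := isLocBasis_extPow φ hφ (U := W) (hb.restrict (hW.trans inf_le_right)) W.1 le_rfl
  obtain ⟨a, rfl⟩ := h1.2 s
  have : IsEmpty (Set.powersetCard (Fin d) k) := by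
    refine ⟨fun J => ?_⟩
    have h2 : J.1.card = k := J.2
    have h3 := Finset.card_le_univ J.1
    rw [Fintype.card_fin] at h3
    omega
  rw [appS_id, appS_zero, comb_apply]
  exact Finset.sum_of_isEmpty _

/-- Locally, the differentials are free of rank a relative dimension. -/
theorem exists_relChart {X S : Scheme.{u}} (f : X ⟶ S) [QuasiSeparated f] [Smooth f] (x : X) :
    ∃ (d : ℕ) (U : X.Opens), x ∈ U ∧ SmoothOfRelativeDimension d (U.ι ≫ f) ∧
      Nonempty ((Omega.sheaf f).restrict U.ι ≅ FlatMod.freeMod (↑U) d) := by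
  obtain ⟨V, hV, U, hU, hx, e, h⟩ := Smooth.exists_isStandardSmooth f x
  obtain ⟨d, hs⟩ := Picfga.CurveRelDim.exists_relativeDimension h
  refine ⟨d, U, hx, Ega2.GeoRelDim.smoothOfRelativeDimension_ι_comp f d V hV U hU e hs, ?_⟩
  let φ : Γ(S, V) ⟶ Γ(X, U) := f.appLE V U e
  let _ : Algebra Γ(S, V) Γ(X, U) := φ.hom.toAlgebra
  have : Algebra.IsStandardSmoothOfRelativeDimension d Γ(S, V) Γ(X, U) := hs
  have : Nonempty U := ⟨⟨x, hx⟩⟩
  have : Nontrivial Γ(X, U) := inferInstance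
  obtain ⟨b⟩ := nonempty_basis (R := Γ(S, V)) (A := Γ(X, U)) d
  have hw : hU.fromSpec ≫ f = Spec.map φ ≫ hV.fromSpec := (hV.SpecMap_appLE_fromSpec f hU e).symm
  let e1 := Smoothlim.ConormalRes.omegaRestrictIso hw
  let e2 : Omega.sheaf (Spec.map φ) ≅ tilde (R := Γ(X, U)) (ModuleCat.of Γ(X, U) (Ω[Γ(X, U)⁄Γ(S, V)])) :=
    Smoothlim.OmegaSpec.omegaSpecIso Γ(S, V) Γ(X, U)
  obtain ⟨e3⟩ := nonempty_iso_freeMod (R := Γ(X, U)) (ModuleCat.of Γ(X, U) (Ω[Γ(X, U)⁄Γ(S, V)])) d b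
  let e4 : (Omega.sheaf f).restrict hU.fromSpec ≅ FlatMod.freeMod (Spec Γ(X, U)) d :=
    (Scheme.Modules.restrictFunctorIsoPullback hU.fromSpec).app (Omega.sheaf f) ≪≫ e1 ≪≫ e2 ≪≫ e3
  exact nonempty_iso_freeMod_restrict e4 U.ι hU.isoSpec.hom (by
    rw [IsAffineOpen.fromSpec, Iso.hom_inv_id_assoc])

/-- Locally, the differentials are free of rank at most the dimension. -/
theorem exists_chart {k : Type u} [Field k] {X : Scheme.{u}} (f : X ⟶ Spec (CommRingCat.of k))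
    [QuasiSeparated f] [Smooth f] (n : ℕ) (hn : topologicalKrullDim ↥X ≤ n) (x : X) :
    ∃ (d : ℕ) (U : X.Opens), x ∈ U ∧ d ≤ n ∧ SmoothOfRelativeDimension d (U.ι ≫ f) ∧
      Nonempty ((Omega.sheaf f).restrict U.ι ≅ FlatMod.freeMod (↑U) d) := by
  obtain ⟨d, U, hx, hd, hU⟩ := exists_relChart f x
  refine ⟨d, U, hx, ?_, hd, hU⟩
  have h1 := UnramA.SmoothFibreDim.localDim_eq d (U.ι ≫ f) ⟨x, hx⟩
  have h2 : FlatMor.localDim U ⟨x, hx⟩ ≤ topologicalKrullDim (U : Set X) :=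
    VarietyB.DimTop.localDim_le_dim (X := U) ⟨x, hx⟩
  have h3 := (h1 ▸ h2).trans ((topologicalKrullDim_subspace_le X (U : Set X)).trans hn)
  exact_mod_cast h3

theorem isFinLocFree_omega {X S : Scheme.{u}} (f : X ⟶ S) [QuasiSeparated f] [Smooth f] :
    FlatMod.IsFinLocFree (Omega.sheaf f) := fun x => by
  obtain ⟨d, U, hx, -, h⟩ := exists_relChart f x
  exact ⟨U, d, hx, h⟩

theorem isFinLocFree_term {X S : Scheme.{u}} {f : X ⟶ S} {Ω' : X.Modules} {δ : OmegaSh.Der f Ω'}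
    (h : FlatMod.IsFinLocFree Ω') (D : DeRhamSh.Cx f Ω' δ) (p : ℕ) : FlatMod.IsFinLocFree (D.term p) :=
  Sga67.LocBasis.isFinLocFree_of_isExtPow h (D.isExtPow p)

theorem isQCoh_term {X S : Scheme.{u}} {f : X ⟶ S} [QuasiSeparated f] [Smooth f] (D : DeRhamSh.OmegaCx f) (p : ℕ) :
    Coh.IsQCoh (D.term p) :=
  PerfA.QCohEpi.isQCoh_of_isFinLocFree (isFinLocFree_term (isFinLocFree_omega f) D p)

theorem isZero_term {k : Type u} [Field k] {X : Scheme.{u}} (f : X ⟶ Spec (CommRingCat.of k))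
    [QuasiSeparated f] [Smooth f] (n : ℕ) (hn : topologicalKrullDim ↥X ≤ n)
    (D : DeRhamSh.OmegaCx f) (p : ℕ) (hp : n < p) : IsZero (D.term p) := by
  refine isZero_of_isExtPow (fun x => ?_) (D.isExtPow p)
  obtain ⟨d, U, hx, hd, -, hU⟩ := exists_chart f n hn x
  exact ⟨d, U, hx, by omega, hU⟩

theorem subsingleton_HH_of_isZero {X : Scheme.{u}} {M : X.Modules} (hM : IsZero M) (p : ℕ) :
    Subsingleton (Coh.HH X M p) :=
  Sheaf.subsingleton_H_of_isZero ((CohqB.DevSupport.toAbF X).map_isZero hM) p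

/-- A quasi-compact scheme locally of finite type over a field is Noetherian. -/
theorem isNoetherian_of_field {k : Type u} [Field k] {X : Scheme.{u}} (f : X ⟶ Spec (CommRingCat.of k))
    [QuasiCompact f] [LocallyOfFiniteType f] : IsNoetherian X := by
  have := LocallyOfFiniteType.isLocallyNoetherian f
  have : CompactSpace X := QuasiCompact.compactSpace_of_compactSpace f
  exact {}

end K853.Terms
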