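import Groth.Agent.DeRhamSh.K184.Const
import Groth.Agent.Lefpen.H721.OmegaSec
import Groth.Agent.DeRhamSh.K853.OmegaBridge
import Mathlib.RingTheory.RingHom.StandardSmooth
import Mathlib.RingTheory.Etale.Kaehler
import Mathlib.RingTheory.Kaehler.Polynomial

/-!
# Étale coordinates on smooth schemes over an affine base

* `basis_of_etale`: étale coordinates give a basis of the differentials;
* `exists_coord`: a scheme smooth of relative dimension `n` over `Spec A` has, around every point, affine opens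
  with étale coordinates.
-/

set_option autoImplicit false

universe u

open CategoryTheory CategoryTheory.Limits AlgebraicGeometry TopologicalSpace Opposite
open scoped TensorProduct

namespace K853.EtCoord

theorem basis_of_etale {A B : Type u} [CommRing A] [CommRing B] [Algebra A B] {n : ℕ} (x : Fin n → B)
    (hx : (MvPolynomial.aeval x : MvPolynomial (Fin n) A →ₐ[A] B).toRingHom.Etale) :
    ∃ b : Module.Basis (Fin n) B (Ω[B⁄A]), ∀ i, b i = KaehlerDifferential.D A B (x i) := by
  let P := MvPolynomial (Fin n) A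
  let φ : P →ₐ[A] B := MvPolynomial.aeval x
  algebraize [φ.toRingHom]
  have hφ : ∀ i, algebraMap P B (MvPolynomial.X i) = x i := fun i ↦ MvPolynomial.aeval_X _ i
  have : IsScalarTower A P B := .of_algebraMap_eq' φ.comp_algebraMap.symm
  have : Algebra.Etale P B := hx
  let e := KaehlerDifferential.tensorKaehlerEquivOfFormallyEtale A P B
  let bb := (KaehlerDifferential.mvPolynomialBasis A (Fin n)).baseChange B
  refine ⟨bb.map e, fun i => ?_⟩
  rw [Module.Basis.map_apply, Module.Basis.baseChange_apply, KaehlerDifferential.mvPolynomialBasis_apply]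
  change KaehlerDifferential.mapBaseChange A P B _ = _
  rw [KaehlerDifferential.mapBaseChange_tmul, one_smul, KaehlerDifferential.map_D, hφ]

section scheme

variable {A : Type u} [CommRing A] {X : Scheme.{u}} (f : X ⟶ Spec (CommRingCat.of A))

theorem le_pre {Y : Scheme.{u}} (U : Y.Opens) : U ≤ (𝟙 Y : Y ⟶ Y) ⁻¹ᵁ ⊤ := le_top

theorem str_eq (U : (Spec (CommRingCat.of A)).Opens) (V : X.Opens) (e : V ≤ f ⁻¹ᵁ U) :
    K184.Const.str f V = (f.appLE U V e).hom.comp (((𝟙 (Spec (CommRingCat.of A)) : _ ⟶ _).appLE ⊤ U (le_pre U)).hom.comp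
      (Scheme.ΓSpecIso (CommRingCat.of A)).inv.hom) := by
  have e2 : V ≤ f ⁻¹ᵁ ⊤ := le_top
  have h : (𝟙 (Spec (CommRingCat.of A)) : _ ⟶ _).appLE ⊤ U (le_pre U) ≫ f.appLE U V e = f.appLE ⊤ V e2 := by
    rw [Scheme.Hom.appLE_comp_appLE]
    simp only [Category.comp_id]
  change (f.appLE ⊤ V e2).hom.comp _ = _
  rw [← h]
  rfl

/-- The base ring maps to the sections over an affine open by an étale map. -/
theorem isStd_base (U : (Spec (CommRingCat.of A)).Opens) (hU : IsAffineOpen U) :
    RingHom.IsStandardSmoothOfRelativeDimension 0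
      (((𝟙 (Spec (CommRingCat.of A)) : _ ⟶ _).appLE ⊤ U (le_pre U)).hom.comp (Scheme.ΓSpecIso (CommRingCat.of A)).inv.hom) := by
  have h1 : ((𝟙 (Spec (CommRingCat.of A)) : _ ⟶ _).appLE ⊤ U (le_pre U)).hom.Etale :=
    Scheme.Hom.etale_appLE (𝟙 _) (isAffineOpen_top _) hU (le_pre U)
  have h2 := RingHom.etale_iff_isStandardSmoothOfRelativeDimension_zero.1 h1
  have h3 : RingHom.IsStandardSmoothOfRelativeDimension 0 (Scheme.ΓSpecIso (CommRingCat.of A)).inv.hom :=
    RingHom.IsStandardSmoothOfRelativeDimension.equiv (Scheme.ΓSpecIso (CommRingCat.of A)).symm.commRingCatIsoToRingEquiv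
  exact h2.comp h3

theorem isStd_str {n : ℕ} (U : (Spec (CommRingCat.of A)).Opens) (hU : IsAffineOpen U) (V : X.Opens) (e : V ≤ f ⁻¹ᵁ U)
    (h : (f.appLE U V e).hom.IsStandardSmoothOfRelativeDimension n) :
    (K184.Const.str f V).IsStandardSmoothOfRelativeDimension n := by
  rw [str_eq f U V e]
  exact h.comp (isStd_base U hU)

/-- étale coordinates on an affine open -/
def IsCoord {n : ℕ} (V : X.Opens) (x : Fin n → Γ(X, V)) : Prop :=
  letI := K184.Const.alg f V
  (MvPolynomial.aeval x : MvPolynomial (Fin n) A →ₐ[A] Γ(X, V)).toRingHom.Etale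

/-- **Étale coordinates.** -/
theorem exists_coord (n : ℕ) [hs : SmoothOfRelativeDimension n f] (p : X) (W : X.Opens) (hp : p ∈ W) :
    ∃ (V : X.Opens) (_ : IsAffineOpen V) (_ : p ∈ V) (_ : V ≤ W) (x : Fin n → Γ(X, V)), IsCoord f V x := by
  obtain ⟨U, hU, V, hV, hpV, e, h⟩ := hs.exists_isStandardSmoothOfRelativeDimension p
  obtain ⟨s, hs1, hs2⟩ := hV.exists_basicOpen_le ⟨p, hp⟩ hpV
  have h2 : X.basicOpen s ≤ V := X.basicOpen_le s
  have h3 : RingHom.IsStandardSmoothOfRelativeDimension 0 (X.presheaf.map (homOfLE h2).op).hom := by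
    have := hV.isLocalization_basicOpen s
    exact RingHom.IsStandardSmoothOfRelativeDimension.algebraMap_isLocalizationAway (Rᵣ := Γ(X, X.basicOpen s)) s
  have h4 : (f.appLE U (X.basicOpen s) (h2.trans e)).hom.IsStandardSmoothOfRelativeDimension n := by
    have h5 := h3.comp h
    rw [zero_add, ← CommRingCat.hom_comp, Scheme.Hom.appLE_map] at h5
    exact h5
  obtain ⟨g, hg1, hg2⟩ := (isStd_str f U hU _ _ h4).exists_etale_mvPolynomial
  refine ⟨X.basicOpen s, hV.basicOpen s, hs2, hs1, fun i => g (MvPolynomial.X i), ?_⟩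
  let _ := K184.Const.alg f (X.basicOpen s)
  have h6 : (MvPolynomial.aeval (fun i => g (MvPolynomial.X i)) : MvPolynomial (Fin n) A →ₐ[A]
      Γ(X, X.basicOpen s)).toRingHom = g := by
    refine MvPolynomial.ringHom_ext (fun a => ?_) (fun i => ?_)
    · change MvPolynomial.aeval _ (MvPolynomial.C a) = _
      rw [MvPolynomial.aeval_C]
      exact (RingHom.congr_fun hg1 a).symm
    · change MvPolynomial.aeval _ (MvPolynomial.X i) = _
      rw [MvPolynomial.aeval_X]
  change RingHom.Etale _
  rw [h6]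
  exact hg2

variable {f}

/-- étale coordinates give a basis of the differentials of the ring of sections -/
theorem IsCoord.exists_basis {n : ℕ} {V : X.Opens} {x : Fin n → Γ(X, V)} (h : IsCoord f V x) :
    letI := K184.Const.alg f V
    ∃ b : Module.Basis (Fin n) Γ(X, V) (Ω[Γ(X, V)⁄A]), ∀ i, b i = KaehlerDifferential.D A Γ(X, V) (x i) :=
  let _ := K184.Const.alg f V
  basis_of_etale x h

/-- restriction of étale coordinates to a smaller affine open -/
theorem IsCoord.res {n : ℕ} {V W : X.Opens} {x : Fin n → Γ(X, V)} (h : IsCoord f V x) (hV : IsAffineOpen V)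
    (hW : IsAffineOpen W) (hWV : W ≤ V) : IsCoord f W fun i => X.presheaf.map (homOfLE hWV).op (x i) := by
  let _ := K184.Const.alg f V
  let _ := K184.Const.alg f W
  have h1 : (X.presheaf.map (homOfLE hWV).op).hom.Etale := by
    have e : W ≤ (𝟙 X : X ⟶ X) ⁻¹ᵁ V := hWV
    have h2 := Scheme.Hom.etale_appLE (𝟙 X) hV hW e
    have h3 : (𝟙 X : X ⟶ X).appLE V W e = X.presheaf.map (homOfLE hWV).op := by
      simp only [Scheme.Hom.appLE, Scheme.Hom.id_app]
      exact Category.id_comp _
    rwa [h3] at h2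
  have h3 : (MvPolynomial.aeval (fun i => X.presheaf.map (homOfLE hWV).op (x i)) : MvPolynomial (Fin n) A →ₐ[A]
      Γ(X, W)).toRingHom = (X.presheaf.map (homOfLE hWV).op).hom.comp
      (MvPolynomial.aeval x : MvPolynomial (Fin n) A →ₐ[A] Γ(X, V)).toRingHom := by
    refine MvPolynomial.ringHom_ext (fun a => ?_) (fun i => ?_)
    · change MvPolynomial.aeval _ (MvPolynomial.C a) = X.presheaf.map _ (MvPolynomial.aeval x (MvPolynomial.C a))
      rw [MvPolynomial.aeval_C, MvPolynomial.aeval_C]
      exact (K184.Const.res_str f hWV a).symm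
    · change MvPolynomial.aeval _ (MvPolynomial.X i) = X.presheaf.map _ (MvPolynomial.aeval x (MvPolynomial.X i))
      rw [MvPolynomial.aeval_X, MvPolynomial.aeval_X]
  change RingHom.Etale _
  rw [h3]
  exact RingHom.Etale.stableUnderComposition _ _ h h1

open Groth.Agent.Lefpen.H721.OmegaSec Groth.Agent.CurvesB.OmegaStalkDict in
theorem secHom_eq (V : X.Opens) : secHom f V = K184.Const.str f V := by
  ext a
  have h1 : Coh.toGlobal f a = K184.Const.str f ⊤ a := by
    have e : (⊤ : X.Opens) ≤ f ⁻¹ᵁ ⊤ := le_top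
    have h2 : f.appTop = f.appLE ⊤ ⊤ e := Scheme.Hom.app_eq_appLE f
    change f.appTop.hom _ = (f.appLE ⊤ ⊤ e).hom _
    rw [h2]
  exact (congrArg (X.presheaf.map (homOfLE (le_top : V ≤ ⊤)).op) h1).trans (K184.Const.res_str f le_top a)

open Groth.Agent.Lefpen.H721.OmegaSec Groth.Agent.CurvesB.OmegaStalkDict in
/-- étale coordinates give a basis of the sheaf of differentials -/
theorem IsCoord.exists_basis_omega [QuasiSeparated f] {n : ℕ} {V : X.Opens} {x : Fin n → Γ(X, V)} (h : IsCoord f V x)
    (hV : IsAffineOpen V) : ∃ b : Module.Basis (Fin n) Γ(X, V) Γ(Omega.sheaf f, V),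
      ∀ i, b i = (OmegaSh.dOmega f).app V (x i) := by
  have h1 : (MvPolynomial.aeval x : MvPolynomial (Fin n) A →ₐ[A] SA f V).toRingHom.Etale := by
    let _ := K184.Const.alg f V
    have h2 : (MvPolynomial.aeval x : MvPolynomial (Fin n) A →ₐ[A] SA f V).toRingHom =
        (MvPolynomial.aeval x : MvPolynomial (Fin n) A →ₐ[A] Γ(X, V)).toRingHom := by
      refine MvPolynomial.ringHom_ext (fun a => ?_) (fun i => ?_)
      · exact ((MvPolynomial.aeval x : MvPolynomial (Fin n) A →ₐ[A] SA f V).commutes a).trans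
          ((RingHom.congr_fun (secHom_eq V) a).trans
            ((MvPolynomial.aeval x : MvPolynomial (Fin n) A →ₐ[A] Γ(X, V)).commutes a).symm)
      · exact (MvPolynomial.aeval_X (R := A) (S₁ := SA f V) x i).trans
          (MvPolynomial.aeval_X (R := A) (S₁ := Γ(X, V)) x i).symm
    rw [h2]
    exact h
  obtain ⟨b, hb⟩ := basis_of_etale (B := SA f V) x h1
  have : QuasiCompact (pullback.diagonal f) := inferInstance
  obtain ⟨e, he⟩ := exists_omega_equiv f hV
  exact ⟨b.map e, fun i => (congrArg e (hb i)).trans ((he (x i)).trans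
    (K853.OmegaBridge.dOmega_app_eq f V (x i)).symm)⟩

end scheme

end K853.EtCoord
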