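import Groth.Agent.Dual.H366.ExtQCoh
import Groth.Agent.Ega1.QCohLoc
import Groth.Agent.Sga67.ExtSheaf

/-!
# Exterior powers of quasi-coherent modules are quasi-coherent
-/

set_option autoImplicit false

universe u

open CategoryTheory AlgebraicGeometry Opposite TopologicalSpace
open Groth.Agent Groth.Agent.Sga67.Sec Groth.Agent.Krr.H495.ExtPre Groth.Agent.Sga67.ExtSheaf

namespace K853.ExtQ

variable {X : Scheme.{u}}

/-- Compatibility of the identifications with restriction on all elements. -/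
theorem phi_res {i : ℕ} {E L : X.Modules} (φ : Phi i E L) (hφ : PhiComp φ)
    (U V : X.affineOpens) (h : V.1 ≤ U.1) (s : Sec L U.1) :
    φ V (res L h s) = eres i E h (φ U s) := by
  refine phi_induction φ U (C := fun s => φ V (res L h s) = eres i E h (φ U s)) ?_ ?_ ?_ ?_ s
  · have e1 : res L h (0 : Sec L U.1) = 0 := map_zero (res L h)
    have e2 : φ U 0 = 0 := map_zero (φ U)
    have e3 : eres i E h 0 = 0 := map_zero (eres i E h)
    exact (congrArg (φ V) e1).trans ((map_zero (φ V)).trans (e3.symm.trans (congrArg (eres i E h) e2.symm)))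
  · intro x y hx hy
    have e1 : res L h (x + y) = res L h x + res L h y := map_add (res L h) x y
    have e2 : φ U (x + y) = φ U x + φ U y := map_add (φ U) x y
    have e3 : eres i E h (φ U x + φ U y) = eres i E h (φ U x) + eres i E h (φ U y) := map_add (eres i E h) _ _
    exact (congrArg (φ V) e1).trans ((map_add (φ V) _ _).trans ((congrArg₂ (· + ·) hx hy).trans
      (e3.symm.trans (congrArg (eres i E h) e2.symm))))
  · intro a x hx
    have e1 : res L h (a • x) = resO X h a • res L h x := res_smul L h a x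
    have e2 : φ U (a • x) = a • φ U x := map_smul (φ U) a x
    have e3 : eres i E h (a • φ U x) = resO X h a • eres i E h (φ U x) := (eres i E h).map_smulₛₗ a (φ U x)
    exact (congrArg (φ V) e1).trans ((map_smul (φ V) _ _).trans ((congrArg (resO X h a • ·) hx).trans
      (e3.symm.trans (congrArg (eres i E h) e2.symm))))
  · intro e
    rw [hφ U V h e, LinearEquiv.apply_symm_apply, LinearEquiv.apply_symm_apply]
    exact (eres_ιMulti i E h e).symm

theorem exists_res {i : ℕ} {E L : X.Modules} (hE : Coh.IsQCoh E) (φ : Phi i E L) (hφ : PhiComp φ)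
    (U V : X.affineOpens) (g : Γ(X, U.1)) (hV : V.1 = X.basicOpen g) (h : V.1 ≤ U.1) (s : Sec L V.1) :
    ∃ (k : ℕ) (t : Sec L U.1), res L h t = resO X h g ^ k • s := by
  obtain ⟨V, hV'⟩ := V
  subst hV
  obtain ⟨k, x, hx'⟩ : ∃ (k : ℕ) (x : ↥(⋀[Γ(X, U.1)]^i (Sec E U.1))),
      eres i E h x = resO X h (g ^ k) • φ ⟨X.basicOpen g, hV'⟩ s :=
    (Dual.H366.ExtQCoh.locP_extPre i hE).surj U.1 U.2 g (toPre i E _ (φ _ s))
  refine ⟨k, (φ U).symm x, ?_⟩
  apply (φ _).injective
  have h1 := phi_res φ hφ U _ h ((φ U).symm x)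
  rw [LinearEquiv.apply_symm_apply] at h1
  rw [map_smul, h1, hx', map_pow]

theorem exists_pow_smul {i : ℕ} {E L : X.Modules} (hE : Coh.IsQCoh E) (φ : Phi i E L) (hφ : PhiComp φ)
    (U V : X.affineOpens) (g : Γ(X, U.1)) (hV : V.1 = X.basicOpen g) (h : V.1 ≤ U.1) (t : Sec L U.1)
    (ht : res L h t = 0) : ∃ k : ℕ, g ^ k • t = 0 := by
  obtain ⟨V, hV'⟩ := V
  subst hV
  have h1 := phi_res φ hφ U _ h t
  rw [ht, map_zero] at h1
  obtain ⟨k, hk⟩ := (Dual.H366.ExtQCoh.locP_extPre i hE).inj U.1 U.2 g (toPre i E _ (φ _ t)) h1.symm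
  have hk' : g ^ k • φ U t = 0 := hk
  refine ⟨k, (φ U).injective ?_⟩
  rw [map_smul, hk', map_zero]

/-- An exterior power of a quasi-coherent module is quasi-coherent. -/
theorem isQCoh_of_isExtPow {i : ℕ} {E L : X.Modules} (hE : Coh.IsQCoh E) (hL : ExtPow.IsExtPow i E L) :
    Coh.IsQCoh L := by
  obtain ⟨φ, hφ⟩ := exists_phi hL
  apply Ega1.QCohLoc.isQCoh_of_isLocOnAffines
  intro U hU g
  exact ⟨fun s => exists_res hE φ hφ ⟨U, hU⟩ ⟨X.basicOpen g, hU.basicOpen g⟩ g rfl (X.basicOpen_le g) s,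
    fun t ht => exists_pow_smul hE φ hφ ⟨U, hU⟩ ⟨X.basicOpen g, hU.basicOpen g⟩ g rfl (X.basicOpen_le g) t ht⟩

end K853.ExtQ
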