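import Groth.Agent.DeRhamSh.K853.SheafHT

/-!
# Hypercohomology of a de Rham complex from the cohomology of its terms

For `D : DeRhamSh.Cx f Ω' δ`:
* `hdR_subsingleton`: `H^n(X, D) = 0` if `H^q(X, Ω^p) = 0` for all `p + q = n`;
* `finite_hdR`: finiteness of `KLinDR.HdR` over a noetherian ring;
* `nonempty_hdR_linearEquiv`: the case where only one `H^q(X, Ω^p)` contributes.
-/

set_option autoImplicit false

universe w u u'

open CategoryTheory CategoryTheory.Limits Opposite E1Deg KLinDR AlgebraicGeometry TopologicalSpace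

namespace K853.HdRBasic

open HTExact SigmaSES SheafHT

variable {X S : Scheme.{u}} {f : X ⟶ S} {Ω' : X.Modules} {δ : OmegaSh.Der f Ω'}

/-- the degree-p term of `D.KZ` -/
noncomputable def KZXIso (D : DeRhamSh.Cx f Ω' δ) (p : ℕ) : D.KZ.X (p : ℤ) ≅ Coh.toAb (D.term p) :=
  D.K.extendXIso ComplexShape.embeddingUpNat (ComplexShape.embeddingUpNat_f p) ≪≫ D.iso p

theorem isZero_KZ_X (D : DeRhamSh.Cx f Ω' δ) (m : ℤ) (h : m < 0) : IsZero (D.KZ.X m) :=
  D.K.isZero_extend_X ComplexShape.embeddingUpNat m (fun i hi => by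
    simp only [ComplexShape.embeddingUpNat_f] at hi
    omega)

theorem scalar_f_eq {k : Type u'} [CommRing k] {c : k →+* Coh.Γtop X} (D : DeRhamSh.Cx f Ω' δ)
    (hD : TermwiseLinear c D.K D.term D.iso) (p : ℕ) (a : k) :
    (scalar hD a : D.KZ ⟶ D.KZ).f (p : ℤ) =
      (KZXIso D p).hom ≫ Coh.smulAb (D.term p) (c a) ≫ (KZXIso D p).inv := by
  rw [scalar_f]
  simp only [KZXIso, scalarEnd, Iso.trans_hom, Iso.trans_inv, Category.assoc]

theorem smul_eq (M : X.Modules) (q : ℕ) (r : Coh.Γtop X) (x : Coh.HH X M q) :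
    r • x = Abelian.Ext.comp x (Abelian.Ext.mk₀ (Coh.smulAb M r)) (add_zero q) := rfl

variable [HasDerivedCategory.{w} (Sheaf (Opens.grothendieckTopology X) AddCommGrpCat.{u})]

theorem hdR_subsingleton (D : DeRhamSh.Cx f Ω' δ) (n : ℤ)
    (h : ∀ p q : ℕ, (p : ℤ) + q = n → Subsingleton (Coh.HH X (D.term p) q)) :
    Subsingleton (DeRhamSh.HdR D n) :=
  subsingleton_HT_of_ext.{u} (CohCx.freeSheaf (Opens.grothendieckTopology X) (⊤ : X.Opens)) _
    (freeSheafIsoConstant (Opens.grothendieckTopology X) (CategoryTheory.Limits.isTerminalTop : IsTerminal (⊤ : X.Opens)))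
    D.KZ (fun p => Coh.toAb (D.term p)) (KZXIso D) (isZero_KZ_X D) n h

theorem finite_hdR {k : Type u'} [CommRing k] [IsNoetherianRing k] {c : k →+* Coh.Γtop X}
    (D : DeRhamSh.Cx f Ω' δ) (hD : TermwiseLinear c D.K D.term D.iso) (n : ℤ)
    [∀ p q : ℕ, Module k (Coh.HH X (D.term p) q)]
    (hsmul : ∀ (p q : ℕ) (a : k) (x : Coh.HH X (D.term p) q), a • x = c a • x)
    (h : ∀ p q : ℕ, (p : ℤ) + q = n → Module.Finite k (Coh.HH X (D.term p) q)) :
    Module.Finite k (KLinDR.HdR c D hD n) :=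
  finite_HTρ_of_ext.{u} (CohCx.freeSheaf (Opens.grothendieckTopology X) (⊤ : X.Opens)) _
    (freeSheafIsoConstant (Opens.grothendieckTopology X) (CategoryTheory.Limits.isTerminalTop : IsTerminal (⊤ : X.Opens)))
    D.KZ (fun p => Coh.toAb (D.term p)) (KZXIso D) (isZero_KZ_X D) (scalar hD)
    (fun p a => Coh.smulAb (D.term p) (c a)) (scalar_f_eq D hD) n
    (fun p q a x => (hsmul p q a x).trans (smul_eq (D.term p) q (c a) x)) h

theorem nonempty_hdR_linearEquiv {k : Type u'} [CommRing k] {c : k →+* Coh.Γtop X}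
    (D : DeRhamSh.Cx f Ω' δ) (hD : TermwiseLinear c D.K D.term D.iso) (p₀ q₀ : ℕ)
    [∀ p q : ℕ, Module k (Coh.HH X (D.term p) q)]
    (hsmul : ∀ (p q : ℕ) (a : k) (x : Coh.HH X (D.term p) q), a • x = c a • x)
    (h : ∀ p q : ℕ, (p : ℤ) + q = p₀ + q₀ → p ≠ p₀ → Subsingleton (Coh.HH X (D.term p) q))
    (h₁ : ∀ p q : ℕ, (p : ℤ) + q = p₀ + q₀ - 1 → p < p₀ → Subsingleton (Coh.HH X (D.term p) q))
    (h₂ : ∀ p q : ℕ, (p : ℤ) + q = p₀ + q₀ + 1 → p₀ < p → Subsingleton (Coh.HH X (D.term p) q)) :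
    Nonempty (KLinDR.HdR c D hD (p₀ + q₀) ≃ₗ[k] Coh.HH X (D.term p₀) q₀) :=
  nonempty_linearEquiv_of_ext.{u} (CohCx.freeSheaf (Opens.grothendieckTopology X) (⊤ : X.Opens)) _
    (freeSheafIsoConstant (Opens.grothendieckTopology X) (CategoryTheory.Limits.isTerminalTop : IsTerminal (⊤ : X.Opens)))
    D.KZ (fun p => Coh.toAb (D.term p)) (KZXIso D) (isZero_KZ_X D) (scalar hD)
    (fun p a => Coh.smulAb (D.term p) (c a)) (scalar_f_eq D hD) p₀ q₀
    (fun p q a x => (hsmul p q a x).trans (smul_eq (D.term p) q (c a) x)) h h₁ h₂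

end K853.HdRBasic
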