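import Groth.Agent.DeRhamSh.K853.CxAff
import Groth.Agent.DeRhamSh.K853.ExtQ
import Groth.Agent.DeRhamSh.K853.HdRBasic
import Groth.Agent.PerfA.AffVan
import Groth.Agent.Dual.H328.ClopenGlue

/-!
# de Rham cohomology over affine opens is the cohomology of the ring-level de Rham complex

For `f : X ⟶ Spec A` quasi-separated, `D : DeRhamSh.OmegaCx f`, `W ⊆ X` an affine open and `d` the de Rham
differential of `Γ(X, W)` over `A`: `H^n(W, D) ≃ H^n(⋀^• Ω[Γ(X, W)⁄A], d)`, `A`-linearly.
-/

set_option autoImplicit false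

universe w u

open CategoryTheory CategoryTheory.Limits AlgebraicGeometry Opposite TopologicalSpace exteriorPower

namespace K853.AffCompare

open Groth.Agent.Lefpen.H721.OmegaSec
open CxAff

variable {A : Type u} [CommRing A] {X : Scheme.{u}} (f : X ⟶ Spec (CommRingCat.of A)) [QuasiSeparated f]
  (D : DeRhamSh.OmegaCx f)

theorem isQCoh_term (p : ℕ) : Coh.IsQCoh (D.term p) :=
  ExtQ.isQCoh_of_isExtPow (Groth.Agent.Dual.H328.ClopenGlue.isQCoh_omega f) (D.isExtPow p)

variable [HasDerivedCategory.{w} (Sheaf (Opens.grothendieckTopology X) AddCommGrpCat.{u})]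

/-- **The affine comparison.** -/
theorem nonempty_linearEquiv (W : X.affineOpens)
    (d : ∀ p : ℕ, ↥(⋀[SA f W.1]^p (Ω[SA f W.1⁄A])) →ₗ[A] ↥(⋀[SA f W.1]^(p + 1) (Ω[SA f W.1⁄A])))
    (hd : DeRham.IsRule (KaehlerDifferential.D A (SA f W.1)) d) (n : ℕ) :
    Nonempty (SeqCoh.H d n ≃ₗ[A] KLinDR.HdRU (Coh.toGlobal f) D (termwiseLinear f D) n W.1) := by
  obtain ⟨e, d', hd', he, hs⟩ := exists_ringModel f D W
  have hgen : Submodule.span (SA f W.1) (Set.range (KaehlerDifferential.D A (SA f W.1))) = ⊤ :=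
    KaehlerDifferential.span_range_derivation A (SA f W.1)
  refine SiteModel.nonempty_linearEquiv.{w, u} D.K (fun p => Coh.toAb (D.term p)) D.iso
    (KLinDR.scalar (termwiseLinear f D)) (fun p a => Coh.smulAb (D.term p) (Coh.toGlobal f a))
    (HdRBasic.scalar_f_eq D (termwiseLinear f D)) d W.1 e (fun p x => ?_) (fun a p x => ?_)
    (fun p q x => ?_) n
  · rw [RingCx.rule_unique hgen hd hd'.1]
    exact he p x
  · have h1 := hs p (algebraMap A (SA f W.1) a) x
    have h2 := smulAb_app_eq f (D.term p) W.1 a x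
    exact (congrArg (e p) h2).trans (h1.trans (algebraMap_smul _ _ _))
  · have h := Groth.Agent.PerfA.AffVan.subsingleton_HU (D.term p) (isQCoh_term f D p) W.1 W.2 q
    exact Subsingleton.elim (h := h) x 0

end K853.AffCompare
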