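import Groth.Agent.DeRhamSh.K853.Taylor
import Groth.Agent.DeRhamSh.K854.LocAsm

/-!
# The vanishing of the Taylor coefficients from the constancy of the class of the diagonal
-/

set_option autoImplicit false
universe u

open CategoryTheory CategoryTheory.Limits AlgebraicGeometry Opposite TopologicalSpace

namespace K853.VanAsm

open Groth.Agent K644.Kap K644.Fr
open Groth.Agent.LoccohB.GlueHom
open Groth.Agent.CurvesB.OmegaStalkDict (secHom)

/-- **Constancy of the class of the diagonal.** -/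
def DIAG (e : ℕ) : Prop :=
  ∀ (A : Type u) [CommRing A] [IsArtinianRing A] [IsLocalRing A] [IsAlgClosed (IsLocalRing.ResidueField A)]
    (X : Scheme.{u}) (f : X ⟶ Spec (CommRingCat.of A)) [IsProper f] [SmoothOfRelativeDimension (e + 1) f]
    [ConnectedSpace X] (s : Spec (CommRingCat.of A) ⟶ X) (_ : s ≫ f = 𝟙 _) (D : DeRhamSh.OmegaCx f)
    (V : X.Opens) (hV : IsAffineOpen V) (x : Fin (e + 1) → Γ(X, V)) (_ : K853.EtCoord.IsCoord f V x),
    ∃ (XB : Scheme.{u}) (jB : XB ⟶ X) (qB : XB ⟶ Spec (CommRingCat.of Γ(X, V)))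
      (_ : IsPullback jB qB f (Spec.map (CommRingCat.ofHom (K184.Const.str f V))))
      (γ : Spec (CommRingCat.of Γ(X, V)) ⟶ XB) (_ : γ ≫ jB = hV.fromSpec) (_ : γ ≫ qB = 𝟙 _)
      (OB NB : XB.Opens) (hOB : OB ≤ jB ⁻¹ᵁ V) (tB : Fin (e + 1) → Γ(XB, OB))
      (_ : ∀ i, tB i = jB.appLE V OB hOB (x i) - K184.Const.str qB OB (x i))
      (hB : Valid OB NB tB) (_ : ∀ p, p ∉ NB ↔ p ∈ Set.range γ)
      (ν : Coh.HH X (D.term (e + 1)) (e + 1)),
      fv hB ((Scheme.Modules.pullback jB).obj (D.term (e + 1)))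
        (VarietyB.PullSec.sec jB (D.term (e + 1)) hOB (K854.FracForm.wt f D ⟨V, hV⟩ x)) =
      CohPull.pullMod jB (D.term (e + 1)) (e + 1) ν

section Wt

variable {A : Type u} [CommRing A] {X : Scheme.{u}} (f : X ⟶ Spec (CommRingCat.of A)) [QuasiSeparated f]
  (D : DeRhamSh.OmegaCx f) {e : ℕ}

theorem dOmega_str (V : X.Opens) (a : A) : (OmegaSh.dOmega f).app V (K184.Const.str f V a) = 0 := by
  rw [K853.OmegaBridge.dOmega_app_eq]
  have e : V ≤ f ⁻¹ᵁ ⊤ := le_top
  let _ := CurvesB.OmegaDer.algX f e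
  let _ := CurvesB.OmegaDer.modO f e
  have := CurvesB.OmegaDer.isScalarTower f e
  have h1 := CurvesB.OmegaDer.der_apply f e (K184.Const.str f V a)
  rw [← h1]
  exact (CurvesB.OmegaDer.der f e).map_algebraMap ((Scheme.ΓSpecIso (CommRingCat.of A)).inv a)

theorem wt_sub_str (V : X.affineOpens) (y y' : Fin (e + 1) → Γ(X, V.1)) (a : Fin (e + 1) → A)
    (h : ∀ i, y' i = y i - K184.Const.str f V.1 (a i)) : K854.FracForm.wt f D V y' = K854.FracForm.wt f D V y := by
  unfold K854.FracForm.wt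
  congr 2
  funext i
  rw [h]
  rw [map_sub, dOmega_str, sub_zero]

end Wt

/-- **The vanishing of the classes** from the constancy of the class of the diagonal. -/
theorem van_of_diag (e : ℕ) (hterm : ∀ (A : Type u) [CommRing A] (X : Scheme.{u}) (f : X ⟶ Spec (CommRingCat.of A))
    [IsProper f] [SmoothOfRelativeDimension (e + 1) f] (D : DeRhamSh.OmegaCx f),
    CohB1.IsFP (D.term (e + 1)) ∧ FlatMod.IsFlatOver f (D.term (e + 1))) (h : DIAG.{u} e) :
    K854.LocAsm.VAN.{u} e := by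
  intro A _ _ _ _ X f _ _ _ s hs D N m hm v hv
  have : Smooth f := SmoothOfRelativeDimension.smooth (e + 1) f
  obtain ⟨XB, jB, qB, HB, γ, hγ1, hγ2, OB, NB, hOB, tB, htB, hB, hNB, ν, hν⟩ := h A X f s hs D N.V N.hV N.x N.hx
  have hZ : Valid N.W (K184.GraphCv.cpl s (K854.SecNbhd.isClosed_range hs)) N.z :=
    { h1 := fun i p hp => by
        rintro ⟨y, rfl⟩
        exact K184.Graph.notMem_basicOpen s N.hsW (N.appLE_z hs i) y hp
      h2 := fun p _ => by
        by_cases hp : p ∈ Set.range s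
        · obtain ⟨y, rfl⟩ := hp
          exact Or.inl (N.hsW (show y ∈ (⊤ : (Spec (CommRingCat.of A)).Opens) from trivial))
        · exact Or.inr hp
      h3 := fun p hp hpN => N.exists_mem hs p hp hpN }
  have hz : ∀ i, N.z i = rr N.hWV (N.x i) - K184.Const.str f N.W (K853.Taylor.ev s N.V N.hsV (N.x i)) := by
    intro i
    have h1 : N.z i = rr N.hWV (N.x i - K184.Const.str f N.V (K853.Taylor.ev s N.V N.hsV (N.x i))) := rfl
    rw [h1, map_sub]
    congr 1
    exact K184.Const.res_str f N.hWV _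
  have hN : ∀ p, p ∉ K184.GraphCv.cpl s (K854.SecNbhd.isClosed_range hs) ↔ p ∈ Set.range s := fun p => not_not
  obtain ⟨h1, h2⟩ := hterm A X f D
  have h3 := K853.Taylor.main f (D.term (e + 1)) h1 h2 s hs N.V N.hV N.hsV N.x N.hx HB γ hγ1 hγ2 hOB tB htB hB hNB
    N.hWV N.z hz hZ hN (K854.FracForm.wt f D ⟨N.V, N.hV⟩ N.x) v hv ν hν m hm
  have h4 : mr (D.term (e + 1)) (hZ.dat.Q_le.trans N.hWV) (K854.FracForm.wt f D ⟨N.V, N.hV⟩ N.x) =
      K854.FracForm.wt f D ⟨dd (N.cv hs).O (N.cv hs).l, K854.FracTop.affine_dd (N.cv hs) N.hW N.z (N.cv_l hs)⟩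
        (fun i => resO (dd_le (N.cv hs).O (N.cv hs).l) (N.z i)) := by
    have h5 := K854.FracForm.wt_res f D (V := ⟨dd (N.cv hs).O (N.cv hs).l,
      K854.FracTop.affine_dd (N.cv hs) N.hW N.z (N.cv_l hs)⟩) (W := ⟨N.V, N.hV⟩) (hZ.dat.Q_le.trans N.hWV) N.x
    refine h5.trans ?_
    symm
    refine wt_sub_str f D _ _ _ (fun i => K853.Taylor.ev s N.V N.hsV (N.x i)) fun i => ?_
    have hQ : dd (N.cv hs).O (N.cv hs).l ≤ N.W := hZ.dat.Q_le
    have h6 : ∀ (Q : X.Opens) (hQ : Q ≤ N.W), rr hQ (N.z i) = rr (hQ.trans N.hWV) (N.x i) -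
        K184.Const.str f Q (K853.Taylor.ev s N.V N.hsV (N.x i)) := by
      intro Q hQ
      rw [hz, map_sub, rr_rr]
      congr 1
      exact K184.Const.res_str f hQ _
    exact h6 _ hQ
  rw [h4] at h3
  exact h3

end K853.VanAsm
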