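import Groth.Agent.Lefpen.H721.OmegaSec

/-!
# Global sections of `Spec A` over `Spec R`, as an `R`-algebra
-/

set_option autoImplicit false

universe u

open CategoryTheory AlgebraicGeometry TopologicalSpace Opposite

namespace K853.AffSpec

open Groth.Agent.Lefpen.H721.OmegaSec Groth.Agent.CurvesB.OmegaStalkDict

theorem appLE_top {X Y : Scheme.{u}} (f : X ⟶ Y) : f.appLE ⊤ ⊤ le_top = f.appTop :=
  Scheme.Hom.appLE_eq_app f (U := ⊤)

/-- `A ≃ Γ(Spec A, ⊤)` over `R`. -/
noncomputable def algEquiv (R A : Type u) [CommRing R] [CommRing A] [Algebra R A] :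
    A ≃ₐ[R] SA (Spec.map (CommRingCat.ofHom (algebraMap R A))) ⊤ :=
  AlgEquiv.ofRingEquiv (f := ((Scheme.ΓSpecIso (CommRingCat.of A)).symm.commRingCatIsoToRingEquiv :
    A ≃+* SA (Spec.map (CommRingCat.ofHom (algebraMap R A))) ⊤)) (by
    intro r
    rw [algebraMap_SA, secHom_eq, appLE_top]
    exact congr($(Scheme.ΓSpecIso_inv_naturality (CommRingCat.ofHom (algebraMap R A))) r))

end K853.AffSpec
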