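import Groth.Agent.DeRham.K852.Exist

/-!
# Existence of the de Rham differential on the exterior powers of the Kähler differentials
-/

set_option autoImplicit false

universe v u

open exteriorPower

namespace K853.ExistD

open K852.DR

section

variable {A : Type*} {M : Type*} [CommRing A] [AddCommGroup M] [Module A M]

/-- the wedge of two vectors -/
noncomputable def w2 (m n : M) : ↥(⋀[A]^2 M) := wedge1 1 m ((oneEquiv A M).symm n)

theorem w2_coe (m n : M) : ((w2 m n : ↥(⋀[A]^2 M)) : ExteriorAlgebra A M) =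
    ExteriorAlgebra.ι A m * ExteriorAlgebra.ι A n := by
  rw [w2, wedge1_coe, oneEquiv_symm_apply, ιMulti_apply_coe, ExteriorAlgebra.ιMulti_apply]
  simp

theorem w2_swap (m n : M) : (w2 m n : ↥(⋀[A]^2 M)) + w2 n m = 0 := by
  apply Subtype.ext
  rw [Submodule.coe_add, w2_coe, w2_coe]
  exact ExteriorAlgebra.ι_add_mul_swap m n

end

variable (R : Type v) (A : Type u) [CommRing R] [CommRing A] [Algebra R A]

local notation "DD" => KaehlerDifferential.D R A

/-- `∑ a_b • [b] ↦ ∑ d a_b ∧ d b`. -/
noncomputable def theta0 : (A →₀ A) →+ ↥(⋀[A]^2 (Ω[A⁄R])) :=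
  Finsupp.liftAddHom (fun b =>
    { toFun := fun a => w2 (DD a) (DD b)
      map_zero' := by simp [w2]
      map_add' := fun x y => by simp [w2] })

/-- `∑ a_b • [b] ↦ ∑ a_b d b`. -/
noncomputable abbrev pi0 : (A →₀ A) →ₗ[A] Ω[A⁄R] := Finsupp.linearCombination A (DD)

theorem theta0_single (b a : A) :
    theta0 R A (Finsupp.single b a) = w2 (DD a) (DD b) := by
  rw [theta0, Finsupp.liftAddHom_apply_single]
  rfl

theorem theta0_smul (a : A) (z : A →₀ A) : theta0 R A (a • z) =
    w2 (DD a) (pi0 R A z) + a • theta0 R A z := by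
  induction z using Finsupp.induction_linear with
  | zero => simp [w2]
  | add x y hx hy =>
    have h : (w2 (DD a) (pi0 R A (x + y)) : ↥(⋀[A]^2 (Ω[A⁄R]))) = w2 (DD a) (pi0 R A x) + w2 (DD a) (pi0 R A y) := by
      simp [w2]
    rw [smul_add, map_add, hx, hy, h, map_add, smul_add]
    abel
  | single b c =>
    rw [Finsupp.smul_single, theta0_single, theta0_single, Finsupp.linearCombination_single, smul_eq_mul,
      Derivation.leibniz]
    simp only [w2, map_add, map_smul, LinearMap.add_apply, LinearMap.smul_apply]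
    abel

theorem theta0_ker (z : A →₀ A) (hz : z ∈ KaehlerDifferential.kerTotal R A) :
    theta0 R A z = 0 ∧ pi0 R A z = 0 := by
  rw [KaehlerDifferential.kerTotal] at hz
  induction hz using Submodule.span_induction with
  | mem z hz =>
    rcases hz with (⟨⟨x, y⟩, rfl⟩ | ⟨⟨x, y⟩, rfl⟩) | ⟨x, rfl⟩
    · constructor
      · simp [theta0_single, map_sub, map_add, w2]
      · simp
    · constructor
      · rw [map_sub, map_add, theta0_single, theta0_single, theta0_single]
        dsimp only
        rw [w2_swap, Derivation.map_one_eq_zero]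
        simp [w2]
      · simp
    · simp [theta0_single, w2]
  | zero => simp
  | add x y _ _ hx hy => rw [map_add, map_add, hx.1, hy.1, hx.2, hy.2]; simp
  | smul a x _ hx => rw [theta0_smul, map_smul, hx.1, hx.2]; simp [w2]

theorem exists_theta : ∃ θ : Ω[A⁄R] →+ ↥(⋀[A]^2 (Ω[A⁄R])), ∀ z, θ (pi0 R A z) = theta0 R A z := by
  have hs : Function.Surjective (pi0 R A).toAddMonoidHom := KaehlerDifferential.linearCombination_surjective R A
  have hk : (pi0 R A).toAddMonoidHom.ker ≤ (theta0 R A).ker := fun z hz => by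
    have h1 : z ∈ LinearMap.ker (pi0 R A) := hz
    rw [KaehlerDifferential.kerTotal_eq] at h1
    exact (theta0_ker R A z h1).1
  refine ⟨AddMonoidHom.liftOfSurjective (pi0 R A).toAddMonoidHom hs ⟨theta0 R A, hk⟩, fun z => ?_⟩
  exact AddMonoidHom.liftOfRightInverse_comp_apply _ _ (Function.rightInverse_surjInv hs) ⟨theta0 R A, hk⟩ z

/-- **Existence of the de Rham complex** of an algebra. -/
theorem exists_isDiff : ∃ d : ∀ p : ℕ, ↥(⋀[A]^p (Ω[A⁄R])) →ₗ[R] ↥(⋀[A]^(p + 1) (Ω[A⁄R])),
    DeRham.IsDiff (KaehlerDifferential.D R A) d := by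
  obtain ⟨θ, h⟩ := exists_theta R A
  have hθ : ∀ (a : A) (m : Ω[A⁄R]), θ (a • m) =
      wedge1 1 (DD a) ((oneEquiv A (Ω[A⁄R])).symm m) + a • θ m := by
    intro a m
    obtain ⟨z, rfl⟩ := KaehlerDifferential.linearCombination_surjective R A m
    rw [← map_smul, h, theta0_smul, h]
    rfl
  have hθ0 : ∀ a : A, θ (DD a) = 0 := by
    intro a
    have h1 : DD a = pi0 R A (Finsupp.single a 1) := by simp
    rw [h1, h, theta0_single, Derivation.map_one_eq_zero]
    simp [w2]
  exact ⟨_, isDiff_of_isRule (kaehler_span R A) (isRule_dFam θ hθ hθ0)⟩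

end K853.ExistD
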