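import Groth.Prelude.Def_KLinDR
import Groth.Prelude.Def_E1Deg2
import Mathlib.Algebra.Homology.DerivedCategory.ShortExact
import Mathlib.CategoryTheory.Triangulated.Yoneda
import Mathlib.Algebra.Homology.DerivedCategory.TStructure

/-!
# The cohomological functor `E1Deg.HT T`: long exact sequences of short exact sequences of complexes

`δ hS T n m h : HT T S.X₃ n →+ HT T S.X₁ m` (`n + 1 = m`), with `exact₁`, `exact₂`, `exact₃`.
-/

set_option autoImplicit false

universe w v u

open CategoryTheory CategoryTheory.Limits CategoryTheory.Pretriangulated Opposite E1Deg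

namespace K853.HTExact

variable {A : Type u} [Category.{v} A] [Abelian A] [HasDerivedCategory.{w} A]

section SES

variable {S : ShortComplex (CochainComplex A ℤ)} (hS : S.ShortExact) (T : A)

/-- the functor `Hom(T, -)` on the derived category -/
noncomputable abbrev F (T : A) : DerivedCategory A ⥤ AddCommGrpCat.{w} :=
  preadditiveCoyoneda.obj (op ((DerivedCategory.singleFunctor A 0).obj T))

/-- The connecting homomorphism. -/
noncomputable def δ (n m : ℤ) (h : n + 1 = m) : HT T S.X₃ n →+ HT T S.X₁ m :=
  ((F T).homologySequenceδ (DerivedCategory.triangleOfSES hS) n m h).hom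

include hS in
theorem exact₂ (n : ℤ) (x : HT T S.X₂ n) (hx : HTmap T S.g n x = 0) :
    ∃ y : HT T S.X₁ n, HTmap T S.f n y = x := by
  have h := (F T).homologySequence_exact₂ (DerivedCategory.triangleOfSES hS)
    (DerivedCategory.triangleOfSES_distinguished hS) n
  rw [ShortComplex.ab_exact_iff] at h
  exact h x hx

theorem exact₃ (n m : ℤ) (h : n + 1 = m) (x : HT T S.X₃ n) (hx : δ hS T n m h x = 0) :
    ∃ y : HT T S.X₂ n, HTmap T S.g n y = x := by
  have h := (F T).homologySequence_exact₃ (DerivedCategory.triangleOfSES hS)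
    (DerivedCategory.triangleOfSES_distinguished hS) n m h
  rw [ShortComplex.ab_exact_iff] at h
  exact h x hx

theorem exact₁ (n m : ℤ) (h : n + 1 = m) (x : HT T S.X₁ m) (hx : HTmap T S.f m x = 0) :
    ∃ y : HT T S.X₃ n, δ hS T n m h y = x := by
  have h := (F T).homologySequence_exact₁ (DerivedCategory.triangleOfSES hS)
    (DerivedCategory.triangleOfSES_distinguished hS) n m h
  rw [ShortComplex.ab_exact_iff] at h
  exact h x hx

theorem comp_zero (S : ShortComplex (CochainComplex A ℤ)) (T : A) (n : ℤ) (x : HT T S.X₁ n) :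
    HTmap T S.g n (HTmap T S.f n x) = 0 := by
  rw [← HTmap_comp, S.zero, HTmap_apply]
  simp

theorem δ_map_g (n m : ℤ) (h : n + 1 = m) (x : HT T S.X₂ n) : δ hS T n m h (HTmap T S.g n x) = 0 :=
  ConcreteCategory.congr_hom ((F T).comp_homologySequenceδ (DerivedCategory.triangleOfSES hS)
    (DerivedCategory.triangleOfSES_distinguished hS) n m h) x

theorem map_f_δ (n m : ℤ) (h : n + 1 = m) (x : HT T S.X₃ n) : HTmap T S.f m (δ hS T n m h x) = 0 :=
  ConcreteCategory.congr_hom ((F T).homologySequenceδ_comp (DerivedCategory.triangleOfSES hS)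
    (DerivedCategory.triangleOfSES_distinguished hS) n m h) x

theorem δ_naturality {S' : ShortComplex (CochainComplex A ℤ)} (hS' : S'.ShortExact) (f : S ⟶ S')
    (n m : ℤ) (h : n + 1 = m) (x : HT T S.X₃ n) :
    δ hS' T n m h (HTmap T f.τ₃ n x) = HTmap T f.τ₁ m (δ hS T n m h x) := by
  let φ : DerivedCategory.triangleOfSES hS ⟶ DerivedCategory.triangleOfSES hS' :=
    { hom₁ := DerivedCategory.Q.map f.τ₁
      hom₂ := DerivedCategory.Q.map f.τ₂
      hom₃ := DerivedCategory.Q.map f.τ₃
      comm₁ := by
        change DerivedCategory.Q.map _ ≫ DerivedCategory.Q.map _ = DerivedCategory.Q.map _ ≫ DerivedCategory.Q.map _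
        rw [← Functor.map_comp, ← Functor.map_comp, f.comm₁₂]
      comm₂ := by
        change DerivedCategory.Q.map _ ≫ DerivedCategory.Q.map _ = DerivedCategory.Q.map _ ≫ DerivedCategory.Q.map _
        rw [← Functor.map_comp, ← Functor.map_comp, f.comm₂₃]
      comm₃ := DerivedCategory.triangleOfSESδ_naturality hS hS' f }
  exact ConcreteCategory.congr_hom ((F T).homologySequenceδ_naturality _ _ φ n m h) x

end SES

section Iso

/-- An isomorphism of complexes induces an isomorphism of `HT`. -/
noncomputable def HTequiv (T : A) {K L : CochainComplex A ℤ} (e : K ≅ L) (n : ℤ) : HT T K n ≃+ HT T L n where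
  toFun := HTmap T e.hom n
  invFun := HTmap T e.inv n
  left_inv x := by rw [← HTmap_comp, e.hom_inv_id, HTmap_id]
  right_inv x := by rw [← HTmap_comp, e.inv_hom_id, HTmap_id]
  map_add' := map_add _

theorem HTmap_bijective_of_quasiIso (T : A) {K L : CochainComplex A ℤ} (φ : K ⟶ L) [QuasiIso φ] (n : ℤ) :
    Function.Bijective (HTmap T φ n) := by
  have : IsIso ((shiftFunctor (DerivedCategory A) n).map (DerivedCategory.Q.map φ)) := inferInstance
  constructor
  · intro x y hxy
    rw [HTmap_apply, HTmap_apply] at hxy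
    exact (cancel_mono _).1 hxy
  · intro y
    exact ⟨y ≫ inv ((shiftFunctor (DerivedCategory A) n).map (DerivedCategory.Q.map φ)), by
      rw [HTmap_apply, Category.assoc, IsIso.inv_hom_id, Category.comp_id]⟩

theorem HTmap_zero (T : A) {K L : CochainComplex A ℤ} (n : ℤ) (x : HT T K n) :
    HTmap T (0 : K ⟶ L) n x = 0 := by
  rw [HTmap_apply]
  simp

end Iso

section Vanish

/-- `H_T^n(K) = 0` when `K` is concentrated in degrees `> n`. -/
theorem subsingleton_HT_of_isGE (T : A) (K : CochainComplex A ℤ) (m n : ℤ) (h : n < m)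
    (hK : ∀ i : ℤ, i < m → IsZero (K.X i)) : Subsingleton (HT T K n) := by
  have h1 : K.IsStrictlyGE m := by
    rw [CochainComplex.isStrictlyGE_iff]
    exact hK
  have h2 : (DerivedCategory.Q.obj K).IsGE m := by
    have : K.IsGE m := inferInstance
    infer_instance
  have h3 : DerivedCategory.TStructure.t.IsGE ((shiftFunctor (DerivedCategory A) n).obj (DerivedCategory.Q.obj K)) (m - n) :=
    DerivedCategory.TStructure.t.isGE_shift _ m n (m - n) (by lia)
  refine ⟨fun x y => ?_⟩
  have key : ∀ z : HT T K n, z = 0 := fun z =>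
    DerivedCategory.TStructure.t.zero_of_isLE_of_isGE z 0 (m - n) (by lia) inferInstance h3
  rw [key x, key y]

end Vanish

end K853.HTExact
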