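import Groth.Agent.DeRhamSh.K644.KapTop
import Groth.Agent.DeRhamSh.K184.BcPm

/-!
# Generalized fraction classes of modules on schemes

* `hc_smul`: linearity over the global functions.
* `pm_hcs`, `pullMod_hc`, `psi_hc`: pull-back along morphisms of schemes.
-/

set_option autoImplicit false
universe u

open CategoryTheory CategoryTheory.Limits AlgebraicGeometry Opposite TopologicalSpace

namespace K853.HcSch

open Groth.Agent K644.Kap K56.PMap K56.SchMap

variable {X Y : Scheme.{u}}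

/-- The class of a section of a module. -/
noncomputable def cls (M : X.Modules) (c : Cv X.toTopCat) (n : ℕ) (hn : c.l.length = n) :
    Γ(M, dd c.O c.l) →+ Coh.HH X M n :=
  hc c n hn (F := Coh.toAb M)

theorem cls_smul (M : X.Modules) (c : Cv X.toTopCat) (n : ℕ) (hn : c.l.length = n) (r : Coh.Γtop X)
    (s : Γ(M, dd c.O c.l)) :
    cls M c n hn ((show Γ(X, dd c.O c.l) from Coh.resTop X (op (dd c.O c.l)) r) • s) = r • cls M c n hn s :=
  (map_hc c n hn (F := Coh.toAb M) (Coh.smulAb M r) s).symm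

theorem map_cls {M N : X.Modules} (φ : M ⟶ N) (c : Cv X.toTopCat) (n : ℕ) (hn : c.l.length = n)
    (s : Γ(M, dd c.O c.l)) : CohPull.mapH φ n (cls M c n hn s) = cls N c n hn (φ.app _ s) :=
  map_hc c n hn (F := Coh.toAb M) ((SheafOfModules.toSheaf X.ringCatSheaf).map φ) s

/-- Functoriality in the datum. -/
theorem cls_mono (M : X.Modules) (c c' : Cv X.toTopCat) (n : ℕ) (hn : c.l.length = n) (hn' : c'.l.length = n)
    (h : c.O ≤ c'.O) (hN : c.N ≤ c'.N) (hl : List.Forall₂ (fun V V' => c.O ⊓ V ≤ V') c.l c'.l)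
    (s : Γ(M, dd c'.O c'.l)) :
    cls M c' n hn' s = cls M c n hn (K56.SchMap.rs M (dd_le_dd h hl) s) :=
  hc_mono c c' n hn hn' (F := Coh.toAb M) h hN hl s

/-- Vanishing. -/
theorem cls_eq_zero (M : X.Modules) (c : Cv X.toTopCat) (n : ℕ) (hn : c.l.length = n) {V : X.Opens}
    {l₁ l₂ : List X.Opens} (h : c.l = l₁ ++ V :: l₂) (hd : dd c.O c.l ≤ dd c.O (l₁ ++ l₂))
    (s : Γ(M, dd c.O (l₁ ++ l₂))) : cls M c n hn (K56.SchMap.rs M hd s) = 0 :=
  hc_eq_zero c n hn (F := Coh.toAb M) h hd s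

section Pull

variable (g : X ⟶ Y)

/-- The hypotheses on data for pulling back. -/
structure Pb (c : Cv Y.toTopCat) (c' : Cv X.toTopCat) : Prop where
  hO : c'.O ≤ g ⁻¹ᵁ c.O
  hN : c'.N ≤ g ⁻¹ᵁ c.N
  hl : List.Forall₂ (fun V' V => c'.O ⊓ V' ≤ g ⁻¹ᵁ V) c'.l c.l

variable {g}

theorem Pb.le {c : Cv Y.toTopCat} {c' : Cv X.toTopCat} (h : Pb g c c') : dd c'.O c'.l ≤ g ⁻¹ᵁ dd c.O c.l :=
  (sm g.base).dd_le h.hO h.hl

variable (g)

/-- Pull-back along a map of modules. -/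
theorem pm_cls {M : Y.Modules} {N : X.Modules} (φ : M ⟶ (Scheme.Modules.pushforward g).obj N)
    {c : Cv Y.toTopCat} {c' : Cv X.toTopCat} (h : Pb g c c') (n : ℕ) (hn : c.l.length = n)
    (hn' : c'.l.length = n) (s : Γ(M, dd c.O c.l)) :
    pm g.base (G := Coh.toAb M) (H := Coh.toAb N) ((SheafOfModules.toSheaf Y.ringCatSheaf).map φ) n
      (cls M c n hn s) = cls N c' n hn' (K56.SchMap.rs N h.le (φ.app _ s)) :=
  pm_hc g.base c c' n hn hn' (G := Coh.toAb M) (H := Coh.toAb N)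
    ((SheafOfModules.toSheaf Y.ringCatSheaf).map φ) h.hO h.hN h.hl s

/-- The pull-back of classes. -/
theorem pullMod_cls (M : Y.Modules) {c : Cv Y.toTopCat} {c' : Cv X.toTopCat} (h : Pb g c c') (n : ℕ)
    (hn : c.l.length = n) (hn' : c'.l.length = n) (s : Γ(M, dd c.O c.l)) :
    CohPull.pullMod g M n (cls M c n hn s) =
      cls ((Scheme.Modules.pullback g).obj M) c' n hn' (VarietyB.PullSec.sec g M h.le s) :=
  pm_cls g ((Scheme.Modules.pullbackPushforwardAdjunction g).unit.app M) h n hn hn' s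

end Pull

section Psi

variable {X₁ X₂ : Scheme.{u}} (g : X₂ ⟶ X₁) {j : X₁ ⟶ X} {j' : X₂ ⟶ X} (w : g ≫ j = j') (F : X.Modules)

/-- The transition map on sections. -/
noncomputable def tsec {U : X₁.Opens} {V : X₂.Opens} (e : V ≤ g ⁻¹ᵁ U) :
    Γ((Scheme.Modules.pullback j).obj F, U) →+ Γ((Scheme.Modules.pullback j').obj F, V) :=
  (((K184.BcPm.cmp g w F).app V).hom).comp (VarietyB.PullSec.sec g ((Scheme.Modules.pullback j).obj F) e)

theorem tsec_smul {U : X₁.Opens} {V : X₂.Opens} (e : V ≤ g ⁻¹ᵁ U) (a : Γ(X₁, U))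
    (s : Γ((Scheme.Modules.pullback j).obj F, U)) :
    tsec g w F e (a • s) = g.appLE U V e a • tsec g w F e s := by
  change ((K184.BcPm.cmp g w F).app V) (VarietyB.PullSec.sec g _ e (a • s)) = _
  rw [VarietyB.PullSec.sec_smul]
  exact Scheme.Modules.Hom.app_smul _ _ _

theorem tsec_res {U U' : X₁.Opens} {V V' : X₂.Opens} (e : V ≤ g ⁻¹ᵁ U) (e' : V' ≤ g ⁻¹ᵁ U') (hU : U' ≤ U)
    (hV : V' ≤ V) (s : Γ((Scheme.Modules.pullback j).obj F, U)) :
    K56.SchMap.rs _ hV (tsec g w F e s) = tsec g w F e' (K56.SchMap.rs _ hU s) := by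
  change K56.SchMap.rs _ hV ((K184.BcPm.cmp g w F).app V (VarietyB.PullSec.sec g _ e s)) = _
  have h1 := K56.SchMap.app_rs (K184.BcPm.cmp g w F) hV (VarietyB.PullSec.sec g _ e s)
  refine h1.symm.trans ?_
  exact congrArg ((K184.BcPm.cmp g w F).app V') (Fga.SecComp.res_sec g _ e e' hU hV s)

theorem tsec_sec {T : X.Opens} {U : X₁.Opens} {V : X₂.Opens} (e : V ≤ g ⁻¹ᵁ U) (e₁ : U ≤ j ⁻¹ᵁ T)
    (e₂ : V ≤ j' ⁻¹ᵁ T) (s : Γ(F, T)) :
    tsec g w F e (VarietyB.PullSec.sec j F e₁ s) = VarietyB.PullSec.sec j' F e₂ s := by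
  subst w
  have h1 := Fga.SecComp.sec_comp g j F e₁ e e₂ s
  have h2 := Fga.SecComp.sec_congr (rfl : g ≫ j = g ≫ j) F e₂ e₂ s
  refine Eq.trans ?_ h2
  rw [← h1]
  rfl

/-- The transition map on classes. -/
theorem pm_psi_cls {c : Cv X₁.toTopCat} {c' : Cv X₂.toTopCat} (h : Pb g c c') (n : ℕ)
    (hn : c.l.length = n) (hn' : c'.l.length = n) (s : Γ((Scheme.Modules.pullback j).obj F, dd c.O c.l)) :
    pm g.base (K184.BcPm.psi g w F) n (cls ((Scheme.Modules.pullback j).obj F) c n hn s) =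
      cls ((Scheme.Modules.pullback j').obj F) c' n hn' (tsec g w F h.le s) := by
  rw [K184.BcPm.pm_psi_eq]
  have h1 := pullMod_cls g ((Scheme.Modules.pullback j).obj F) h n hn hn' s
  refine (congrArg _ h1).trans ?_
  exact map_cls (K184.BcPm.cmp g w F) c' n hn' _

end Psi

end K853.HcSch
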