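import Groth.Agent.DeRhamSh.K853.HTExact
import Groth.Agent.DeRhamSh.K853.SeqCoh
import Groth.Agent.Htor.H253.HomCone
import Groth.Agent.LoccohB.HomCls
import Mathlib.Algebra.Homology.Factorizations.CM5a
import Mathlib.Algebra.Homology.DerivedCategory.KInjective
import Mathlib.Algebra.Homology.HomotopyCategory.KInjective

/-!
# Hypercohomology of a bounded below complex with acyclic terms

`K` bounded below with `Ext^q(T, K^p) = 0` for `q > 0`: `HT T K n` is the cohomology of the complex `Hom(T, K)`.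
* `cls_surjective`, `cls_eq_zero_iff`;
* `nonempty_linearEquiv`: the linear form, through any model of the complex `Hom(T, K)`.
-/

set_option autoImplicit false

universe w w' v u

open CategoryTheory CategoryTheory.Limits Opposite E1Deg KLinDR

namespace K853.HomAcyc

open HTExact Groth.Agent.LoccohB.HomCls Groth.Agent.Htor.H253.HomCone

variable {A : Type u} [Category.{v} A] [Abelian A] [HasDerivedCategory.{w} A]

theorem exists_injective_resolution [EnoughInjectives A] (K : CochainComplex A ℤ) (a : ℤ)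
    (ha : ∀ i : ℤ, i < a → IsZero (K.X i)) :
    ∃ (I : CochainComplex A ℤ) (φ : K ⟶ I), QuasiIso φ ∧ (∀ i, Injective (I.X i)) ∧
      I.IsKInjective ∧ ∀ i : ℤ, i < a → IsZero (I.X i) := by
  have hK : K.IsStrictlyGE a := by
    rw [CochainComplex.isStrictlyGE_iff]
    exact ha
  obtain ⟨I, φ, h1, h2, h3⟩ := CochainComplex.Plus.modelCategoryQuillen.exists_quasiIso_injective K a
  exact ⟨I, φ, h1, h2, CochainComplex.isKInjective_of_injective I a, fun i hi => I.isZero_of_isStrictlyGE a i hi⟩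

variable (T : A) (K : CochainComplex A ℤ) (n : ℤ)

/-- The class of a cocycle. -/
noncomputable def cls (f : T ⟶ K.X n) (hf : f ≫ K.d n (n + 1) = 0) : HT T K n := scls f hf

theorem cls_add (f f' : T ⟶ K.X n) (hf : f ≫ K.d n (n + 1) = 0) (hf' : f' ≫ K.d n (n + 1) = 0)
    (h : (f + f') ≫ K.d n (n + 1) = 0) : cls T K n (f + f') h = cls T K n f hf + cls T K n f' hf' :=
  scls_add f f' hf hf'

theorem cls_eq_zero_of_exists (f : T ⟶ K.X n) (hf : f ≫ K.d n (n + 1) = 0)
    (h : ∃ g : T ⟶ K.X (n - 1), g ≫ K.d (n - 1) n = f) : cls T K n f hf = 0 :=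
  scls_eq_zero_of_exists f hf h

variable {T K n}

theorem cls_map {L : CochainComplex A ℤ} (φ : K ⟶ L) (f : T ⟶ K.X n) (hf : f ≫ K.d n (n + 1) = 0)
    (h : (f ≫ φ.f n) ≫ L.d n (n + 1) = 0) : cls T L n (f ≫ φ.f n) h = HTmap T φ n (cls T K n f hf) :=
  scls_postcomp f hf φ

section

variable [HasExt.{w'} A] [EnoughInjectives A]

theorem cls_surjective (a : ℤ) (ha : ∀ i, i < a → IsZero (K.X i)) (hK : ∀ i, ExtAcyc T (K.X i))
    (x : HT T K n) : ∃ (f : T ⟶ K.X n) (hf : f ≫ K.d n (n + 1) = 0), cls T K n f hf = x := by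
  obtain ⟨I, φ, hφ, hI, hI', haI⟩ := exists_injective_resolution K a ha
  obtain ⟨g, hg, hgx⟩ := scls_surjective (L := I) (HTmap T φ n x)
  obtain ⟨f, z, hf, hz⟩ := exists_of_quasiIso φ a ha haI hK (fun i => extAcyc_of_injective)
    (n - 1) n (n + 1) (n + 2) (by ring) rfl (by ring) (0 : T ⟶ K.X (n + 1)) g (by simp) (by simp [hg])
  refine ⟨f, hf, (HTmap_bijective_of_quasiIso T φ n).1 ?_⟩
  have h1 : (f ≫ φ.f n) ≫ I.d n (n + 1) = 0 := by
    rw [Category.assoc, φ.comm, reassoc_of% hf, zero_comp]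
  rw [← cls_map φ f hf h1]
  have h2 : cls T I n (z ≫ I.d (n - 1) n) (by simp) = 0 := cls_eq_zero_of_exists T I n _ _ ⟨z, rfl⟩
  have h3 : cls T I n (f ≫ φ.f n) h1 = cls T I n (g + z ≫ I.d (n - 1) n) (by rw [← hz]; exact h1) := by
    congr 1
  rw [h3, cls_add T I n g (z ≫ I.d (n - 1) n) hg (by simp), h2, add_zero]
  exact hgx

theorem cls_eq_zero_iff (a : ℤ) (ha : ∀ i, i < a → IsZero (K.X i)) (hK : ∀ i, ExtAcyc T (K.X i))
    (f : T ⟶ K.X n) (hf : f ≫ K.d n (n + 1) = 0) :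
    cls T K n f hf = 0 ↔ ∃ g : T ⟶ K.X (n - 1), g ≫ K.d (n - 1) n = f := by
  refine ⟨fun h => ?_, cls_eq_zero_of_exists T K n f hf⟩
  obtain ⟨I, φ, hφ, hI, hI', haI⟩ := exists_injective_resolution K a ha
  have h1 : (f ≫ φ.f n) ≫ I.d n (n + 1) = 0 := by
    rw [Category.assoc, φ.comm, reassoc_of% hf, zero_comp]
  have h2 : cls T I n (f ≫ φ.f n) h1 = 0 := by
    rw [cls_map φ f hf h1, h, map_zero]
  obtain ⟨g, hg⟩ := (scls_eq_zero_iff (L := I) (f ≫ φ.f n) h1).mp h2
  obtain ⟨x, z, hx, -⟩ := exists_of_quasiIso φ a ha haI hK (fun i => extAcyc_of_injective)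
    (n - 1 - 1) (n - 1) n (n + 1) (by ring) (by ring) rfl f g hf hg.symm
  exact ⟨x, hx⟩

end

section Linear

variable {R : Type*} [Ring R] (ρ : R →+* End K)

theorem cls_smul (a : R) (f : T ⟶ K.X n) (hf : f ≫ K.d n (n + 1) = 0)
    (h : (f ≫ (ρ a : K ⟶ K).f n) ≫ K.d n (n + 1) = 0) :
    HTρ.toHT.symm (cls T K n (f ≫ (ρ a : K ⟶ K).f n) h) =
      a • (HTρ.toHT.symm (cls T K n f hf) : HTρ T K ρ n) :=
  cls_map (ρ a : K ⟶ K) f hf h

variable [HasExt.{w'} A] [EnoughInjectives A]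
  {G : ℕ → Type*} [∀ p, AddCommGroup (G p)] [∀ p, Module R (G p)]
  (d : ∀ p, G p →ₗ[R] G (p + 1))
  (e : ∀ p : ℕ, (T ⟶ K.X (p : ℤ)) ≃+ G p)
  (he : ∀ (p : ℕ) (x : T ⟶ K.X (p : ℤ)), e (p + 1) (x ≫ K.d (p : ℤ) ((p + 1 : ℕ) : ℤ)) = d p (e p x))
  (hρ : ∀ (a : R) (p : ℕ) (x : T ⟶ K.X (p : ℤ)), e p (x ≫ (ρ a : K ⟶ K).f p) = a • e p x)
  (ha : ∀ i : ℤ, i < 0 → IsZero (K.X i)) (hK : ∀ i, ExtAcyc T (K.X i))

include he hρ ha hK in
/-- Hypercohomology of a bounded below complex with acyclic terms through a model `G` of the complex `Hom(T, K)`. -/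
theorem nonempty_linearEquiv (p : ℕ) : Nonempty (SeqCoh.H d p ≃ₗ[R] HTρ T K ρ (p : ℤ)) := by
  have hc : ∀ x : T ⟶ K.X (p : ℤ), x ≫ K.d (p : ℤ) ((p : ℤ) + 1) = 0 ↔ e p x ∈ SeqCoh.Z d p := fun x => by
    rw [SeqCoh.mem_Z_iff, ← he p x, EmbeddingLike.map_eq_zero_iff]
    rfl
  let φ : SeqCoh.Z d p →ₗ[R] HTρ T K ρ (p : ℤ) :=
    { toFun := fun z => HTρ.toHT.symm (cls T K p ((e p).symm z.1)
        ((hc _).mpr (by rw [AddEquiv.apply_symm_apply]; exact z.2)))
      map_add' := fun z z' => by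
        rw [← map_add, ← cls_add T K p _ _ _ _ (by
          rw [← map_add]; exact (hc _).mpr (by rw [AddEquiv.apply_symm_apply]; exact (z + z').2))]
        congr 2
        exact map_add (e p).symm z.1 z'.1
      map_smul' := fun a z => by
        have h1 : (e p).symm (a • z).1 = (e p).symm z.1 ≫ (ρ a : K ⟶ K).f p := by
          apply (e p).injective
          rw [hρ, AddEquiv.apply_symm_apply, AddEquiv.apply_symm_apply]
          rfl
        have h2 := cls_smul (T := T) (n := (p : ℤ)) ρ a ((e p).symm z.1)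
          ((hc _).mpr (by rw [AddEquiv.apply_symm_apply]; exact z.2)) (by
            rw [← h1]; exact (hc _).mpr (by rw [AddEquiv.apply_symm_apply]; exact (a • z).2))
        rw [RingHom.id_apply, ← h2]
        congr 2 }
  refine ⟨SeqCoh.equivOfSurj d p φ (fun y => ?_) fun z => ?_⟩
  · obtain ⟨f, hf, hfy⟩ := cls_surjective (T := T) (K := K) 0 ha hK (HTρ.toHT y)
    refine ⟨⟨e p f, (hc f).mp hf⟩, ?_⟩
    apply HTρ.toHT.injective
    rw [← hfy]
    change cls T K p ((e p).symm (e p f)) _ = _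
    congr 1
    exact (e p).symm_apply_apply f
  · have h1 : φ z = 0 ↔ cls T K p ((e p).symm z.1)
        ((hc _).mpr (by rw [AddEquiv.apply_symm_apply]; exact z.2)) = 0 := Iff.rfl
    rw [h1, cls_eq_zero_iff 0 ha hK]
    obtain ⟨x, hx⟩ := z
    cases p with
    | zero =>
      rw [SeqCoh.mem_B_zero_iff]
      constructor
      · rintro ⟨g, hg⟩
        have h2 : g = 0 := (ha _ (by norm_num)).eq_of_tgt _ _
        rw [h2, zero_comp] at hg
        have := congrArg (e 0) hg.symm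
        rwa [AddEquiv.apply_symm_apply, map_zero] at this
      · intro h
        refine ⟨0, ?_⟩
        rw [zero_comp]
        change (0 : T ⟶ K.X ((0 : ℕ) : ℤ)) = (e 0).symm x
        rw [show x = 0 from h, map_zero]
    | succ p =>
      rw [SeqCoh.mem_B_succ_iff]
      have h2 : ((p + 1 : ℕ) : ℤ) - 1 = (p : ℤ) := by push_cast; ring
      constructor
      · rintro ⟨g, hg⟩
        refine ⟨e p (g ≫ (K.XIsoOfEq h2).hom), ?_⟩
        rw [← he, Category.assoc, HomologicalComplex.XIsoOfEq_hom_comp_d, hg, AddEquiv.apply_symm_apply]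
      · rintro ⟨y, hy⟩
        refine ⟨(e p).symm y ≫ (K.XIsoOfEq h2).inv, ?_⟩
        rw [Category.assoc, HomologicalComplex.XIsoOfEq_inv_comp_d]
        apply (e (p + 1)).injective
        rw [he, AddEquiv.apply_symm_apply, AddEquiv.apply_symm_apply]
        exact hy

end Linear

end K853.HomAcyc
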