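import Groth.Agent.Lefpen.H722.Sys
import Groth.Agent.Lefpen.H278.CechPi
import Groth.Agent.Lefpen.H728.LauSys
import Groth.Agent.Lefpen.H721.OmegaSec

/-!
# The system of sections of a quasi-coherent module on the intersections of an affine cover, over a base ring

`f : X ⟶ Spec A`; `secSys f U M : Sys A ι`, `I ↦ Γ(M, ⋂_{i ∈ I} U i)`, and `H^p(secSys f U M) ≃ₗ[A] H^p(X, M)`.
-/

set_option autoImplicit false
universe u

open CategoryTheory CategoryTheory.Limits AlgebraicGeometry Opposite TopologicalSpace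
open Groth.Agent.LoccohB.GlueHom

namespace K853.SecSysR

open Groth.Agent.Lefpen.H722.Sys Groth.Agent.Lefpen.H278 CechPi
open Groth.Agent.Lefpen.H721.OmegaSec Groth.Agent.CurvesB.OmegaDer Groth.Agent.CurvesB.OmegaStalkDict

variable {k : Type u} [CommRing k] {X : Scheme.{u}} (f : X ⟶ Spec (CommRingCat.of k)) {ι : Type}
  (U : ι → X.Opens)

/-- The intersection of the opens with index in `I`. -/
noncomputable def UI (I : Set ι) : X.Opens := ⨅ i ∈ I, U i

theorem UI_anti {I J : Set ι} (h : I ⊆ J) : UI U J ≤ UI U I :=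
  biInf_mono h

theorem UI_range {p : ℕ} (σ : Fin (p + 1) → ι) : UI U (Set.range σ) = ⨅ a, U (σ a) := by
  rw [UI, iInf_range]

/-- Sections of `M` over `V`, as a `k`-module. -/
def Sec (_ : X ⟶ Spec (CommRingCat.of k)) (M : X.Modules) (V : X.Opens) : Type u := Γ(M, V)

noncomputable instance (M : X.Modules) (V : X.Opens) : AddCommGroup (Sec f M V) :=
  inferInstanceAs (AddCommGroup Γ(M, V))

noncomputable instance (M : X.Modules) (V : X.Opens) : Module k (Sec f M V) :=
  Module.compHom Γ(M, V) (secHom f V)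

theorem smul_def (M : X.Modules) (V : X.Opens) (t : k) (m : Γ(M, V)) :
    (t • (show Sec f M V from m)) = (secHom f V t • m : Γ(M, V)) := rfl

/-- Restriction of sections, `k`-linearly. -/
noncomputable def resK (M : X.Modules) {V W : X.Opens} (h : W ≤ V) : Sec f M V →ₗ[k] Sec f M W where
  toFun m := Groth.Agent.CohqA.CechBasic.res M.presheaf h m
  map_add' a b := map_add _ a b
  map_smul' t a := by
    change (M.presheaf.map (homOfLE h).op) ((secHom f V t) • (show Γ(M, V) from a)) = _
    rw [Scheme.Modules.map_smul]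
    have h1 : X.presheaf.map (homOfLE h).op (secHom f V t) = secHom f W t := res_secHom f h t
    rw [h1]
    rfl

theorem resK_resK (M : X.Modules) {V W Z : X.Opens} (h : W ≤ V) (h' : Z ≤ W) (m : Sec f M V) :
    resK f M h' (resK f M h m) = resK f M (h'.trans h) m :=
  Groth.Agent.CohqA.CechBasic.res_res M.presheaf h' h m

theorem resK_self (M : X.Modules) {V : X.Opens} (m : Sec f M V) : resK f M le_rfl m = m :=
  Groth.Agent.CohqA.CechBasic.res_self M.presheaf m

/-- The system of sections. -/
noncomputable def secSys (M : X.Modules) : Sys k ι where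
  M I := Sec f M (UI U I)
  res h := resK f M (UI_anti U h)
  res_res _ _ x := resK_resK f M _ _ x

/-- The cover indexed by `ULift ι`. -/
abbrev UL : ULift.{u} ι → X.Opens := fun i => U i.down

/-- Sections over equal opens. -/
noncomputable def castK (M : X.Modules) {V W : X.Opens} (h : V = W) : Sec f M V ≃ₗ[k] Sec f M W where
  __ := resK f M h.ge
  invFun := resK f M h.le
  left_inv m := (resK_resK f M _ _ m).trans (resK_self f M m)
  right_inv m := (resK_resK f M _ _ m).trans (resK_self f M m)

theorem castK_apply (M : X.Modules) {V W : X.Opens} (h : V = W) (m : Sec f M V) :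
    castK f M h m = resK f M h.ge m := rfl

theorem UI_range_down {p : ℕ} (i : Fin (p + 1) → ULift.{u} ι) :
    UI U (Set.range (fun a => (i a).down)) = ⨅ a, UL U (i a) := UI_range U _

/-- `castK` with values of the system. -/
noncomputable def castS (M : X.Modules) {p : ℕ} (i : Fin (p + 1) → ULift.{u} ι) :
    (secSys f U M).M (Set.range (fun a => (i a).down)) ≃ₗ[k] Sec f M (⨅ a, UL U (i a)) :=
  castK f M (UI_range_down U i)

/-- Cochains of the system and concrete Čech cochains. -/
noncomputable def toCo (M : X.Modules) (p : ℕ) :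
    C (secSys f U M) p ≃+ Groth.Agent.CohqA.CechBasic.Cochain (UL U) M.presheaf p where
  toFun s i := castS f U M i (s (fun a => (i a).down))
  invFun t σ := (castS f U M (fun a => ULift.up (σ a))).symm (t (fun a => ULift.up (σ a)))
  left_inv s := by
    funext σ
    exact (castS f U M (fun a => ULift.up (σ a))).symm_apply_apply _
  right_inv t := by
    funext i
    exact (castS f U M i).apply_symm_apply _
  map_add' s t := by
    funext i
    exact map_add (castS f U M i) _ _

theorem toCo_apply (M : X.Modules) (p : ℕ) (s : C (secSys f U M) p) (i : Fin (p + 1) → ULift.{u} ι) :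
    toCo f U M p s i = castS f U M i (s (fun a => (i a).down)) := rfl

theorem toCo_d (M : X.Modules) (p : ℕ) (s : C (secSys f U M) p) :
    toCo f U M (p + 1) (d (secSys f U M) p s) =
      Groth.Agent.CohqA.CechBasic.dC (UL U) M.presheaf p (toCo f U M p s) := by
  funext i
  rw [toCo_apply, d_apply, map_sum, Groth.Agent.CohqA.CechBasic.dC_apply]
  refine Finset.sum_congr rfl fun j _ => ?_
  rw [map_zsmul]
  congr 1
  rw [toCo_apply]
  exact (resK_resK f M _ _ _).trans (resK_resK f M _ _ _).symm

theorem secHom_eq_resO (V : X.Opens) (t : k) :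
    secHom f V t = resO (le_top : V ≤ ⊤) (Coh.toGlobal f t) := by
  have h1 := res_secHom f (le_top : V ≤ ⊤) t
  refine h1.symm.trans ?_
  have h2 : secHom f ⊤ t = Coh.toGlobal f t := by
    rw [secHom_eq]
    exact congr($(Scheme.Hom.appLE_eq_app f).hom ((Scheme.ΓSpecIso (CommRingCat.of k)).inv.hom t))
  rw [h2]
  rfl

theorem toCo_smul (M : X.Modules) (p : ℕ) (t : k) (s : C (secSys f U M) p)
    (i : Fin (p + 1) → ULift.{u} ι) :
    toCo f U M p (t • s) i = (resO (le_top : (⨅ a, UL U (i a)) ≤ ⊤)
      (Coh.toGlobal f t) • (toCo f U M p s i : Γ(M, ⨅ a, UL U (i a))) :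
      Γ(M, ⨅ a, UL U (i a))) := by
  rw [toCo_apply, toCo_apply, Pi.smul_apply, map_smul, ← secHom_eq_resO]
  rfl

/-- A cocycle of the system as a concrete cocycle. -/
noncomputable def toZC (M : X.Modules) (p : ℕ) :
    LinearMap.ker (d (secSys f U M) p) ≃+ ZC (UL U) M p where
  toFun s := ⟨toCo f U M p s.1, by
    rw [AddMonoidHom.mem_ker, ← toCo_d, LinearMap.mem_ker.1 s.2, map_zero]⟩
  invFun t := ⟨(toCo f U M p).symm t.1, by
    rw [LinearMap.mem_ker]
    apply (toCo f U M (p + 1)).injective
    rw [toCo_d, AddEquiv.apply_symm_apply, map_zero]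
    exact t.2⟩
  left_inv s := Subtype.ext ((toCo f U M p).symm_apply_apply _)
  right_inv t := Subtype.ext ((toCo f U M p).apply_symm_apply _)
  map_add' s t := Subtype.ext (map_add (toCo f U M p) _ _)

section

variable (hcov : ⨆ i, U i = ⊤) (hU : ∀ s : Finset ι, s.Nonempty → IsAffineOpen (⨅ i ∈ s, U i))

theorem covL (hcov : ⨆ i, U i = ⊤) : ⨆ i, UL.{u} U i = ⊤ := by
  rw [← hcov]
  exact Equiv.ulift.iSup_congr fun _ => rfl

open Classical in
theorem affL (hU : ∀ s : Finset ι, s.Nonempty → IsAffineOpen (⨅ i ∈ s, U i))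
    (s : Finset (ULift.{u} ι)) (hs : s.Nonempty) : IsAffineOpen (⨅ i ∈ s, UL U i) := by
  have h1 := hU (s.image ULift.down) (hs.image _)
  rwa [Finset.iInf_finset_image] at h1

variable (M : X.Modules) (hM : Coh.IsQCoh M) (p : ℕ) [Module k (Coh.HH X M p)]
  (hsmul : ∀ (a : k) (x : Coh.HH X M p), a • x = (Coh.toGlobal f a) • x)

/-- The class in `H^p(X, M)` of a cocycle of the system, `k`-linearly. -/
noncomputable def clsS : LinearMap.ker (d (secSys f U M) p) →ₗ[k] Coh.HH X M p where
  toFun s := clsH (UL U) (covL U hcov) (affL U hU) M hM p (toZC f U M p s)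
  map_add' s t := by rw [map_add, map_add]
  map_smul' t s := (clsH_smul (UL U) (covL U hcov) (affL U hU) M hM p
    (Coh.toGlobal f t) (toZC f U M p s) (toZC f U M p (t • s))
    (fun i => toCo_smul f U M p t s.1 i)).trans (hsmul t _).symm

theorem clsS_surjective : Function.Surjective (clsS f U hcov hU M hM p hsmul) :=
  (clsH_surjective (UL U) (covL U hcov) (affL U hU) M hM p).comp (toZC f U M p).surjective

end

section

variable (hcov : ⨆ i, U i = ⊤) (hU : ∀ s : Finset ι, s.Nonempty → IsAffineOpen (⨅ i ∈ s, U i))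
  (M : X.Modules) (hM : Coh.IsQCoh M)

theorem clsS_eq_zero_iff_succ (p : ℕ) [Module k (Coh.HH X M (p + 1))]
    (hsmul : ∀ (a : k) (x : Coh.HH X M (p + 1)), a • x = (Coh.toGlobal f a) • x)
    (s : LinearMap.ker (d (secSys f U M) (p + 1))) :
    clsS f U hcov hU M hM (p + 1) hsmul s = 0 ↔ ∃ t : C (secSys f U M) p, d (secSys f U M) p t = s.1 := by
  refine (clsH_eq_zero_iff_succ (UL U) (covL U hcov) (affL U hU) M hM p _).trans ?_
  constructor
  · rintro ⟨t, ht⟩
    refine ⟨(toCo f U M p).symm t, ?_⟩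
    apply (toCo f U M (p + 1)).injective
    rw [toCo_d, AddEquiv.apply_symm_apply, ht]
    rfl
  · rintro ⟨t, ht⟩
    refine ⟨toCo f U M p t, ?_⟩
    rw [← toCo_d, ht]
    rfl

theorem clsS_eq_zero_iff_zero [Module k (Coh.HH X M 0)]
    (hsmul : ∀ (a : k) (x : Coh.HH X M 0), a • x = (Coh.toGlobal f a) • x)
    (s : LinearMap.ker (d (secSys f U M) 0)) : clsS f U hcov hU M hM 0 hsmul s = 0 ↔ s = 0 := by
  refine (clsH_eq_zero_iff_zero (UL U) (covL U hcov) (affL U hU) M hM _).trans ?_
  exact (toZC f U M 0).map_eq_zero_iff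

end

/-- **Čech comparison**: the cohomology of the system of sections is the cohomology of the module. -/
theorem nonempty_equiv (hcov : ⨆ i, U i = ⊤)
    (hU : ∀ s : Finset ι, s.Nonempty → IsAffineOpen (⨅ i ∈ s, U i)) (M : X.Modules)
    (hM : Coh.IsQCoh M) (p : ℕ) [Module k (Coh.HH X M p)]
    (hsmul : ∀ (a : k) (x : Coh.HH X M p), a • x = (Coh.toGlobal f a) • x) :
    Nonempty (H (secSys f U M) p ≃ₗ[k] Coh.HH X M p) := by
  cases p with
  | zero =>
    refine ⟨(h0Equiv (secSys f U M)).symm.trans (LinearEquiv.ofBijective (clsS f U hcov hU M hM 0 hsmul)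
      ⟨?_, clsS_surjective f U hcov hU M hM 0 hsmul⟩)⟩
    rw [injective_iff_map_eq_zero]
    exact fun s hs => (clsS_eq_zero_iff_zero f U hcov hU M hM hsmul s).1 hs
  | succ p =>
    exact Groth.Agent.Lefpen.H728.LauSys.nonempty_equiv_of_surjective (secSys f U M) p
      (clsS f U hcov hU M hM (p + 1) hsmul) (clsS_surjective f U hcov hU M hM (p + 1) hsmul)
      (clsS_eq_zero_iff_succ f U hcov hU M hM p hsmul)

end K853.SecSysR
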