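import Groth.Agent.Lefpen.H721.OmZ
import Groth.Agent.Lefpen.H278.SysFam
import Groth.Agent.DeRhamSh.K853.SecSysR

/-!
# Sections of `Ω^p` and Čech systems of forms, over a base ring

If `Γ(X, U_I) = (F G I)_0` naturally in `I`, the system of sections of `Ω^p` is the system of forms
`Z (p + d) (a_1 + ⋯ + a_d)`.
-/

set_option autoImplicit false
universe u

open CategoryTheory AlgebraicGeometry Limits TopologicalSpace Opposite

namespace K853.OmSecR

open Groth.Agent.Lefpen.H722.Sys Groth.Agent.Lefpen.H722.Ring Groth.Agent.Lefpen.H722.GSys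
open Groth.Agent.Lefpen.H722.Hodge
open Groth.Agent.Lefpen.H721.OmegaSec Groth.Agent.Lefpen.H721.Dehom Groth.Agent.Lefpen.H721.OmegaPow
open Groth.Agent.Lefpen.H721.OmZ
open Groth.Agent.CurvesB.OmegaDer Groth.Agent.CurvesB.OmegaStalkDict
open K853.SecSysR

variable {k : Type u} [CommRing k] {ι : Type} [Fintype ι] [LinearOrder ι] {d : ℕ}
  (G : Fin d → MvPolynomial ι k) (a : Fin d → ℕ) (ha : ∀ j, 1 ≤ a j) (hG : ∀ j, (G j).IsHomogeneous (a j))
  (hΦ : HasΦ G a)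

/-- `⋀^p Ω[B0⁄k]` as forms. -/
noncomputable def omE (p : ℕ) {I : Set ι} (hI : I.Nonempty) :
    ⋀[B0 G I]^p Ω[B0 G I⁄k] ≃ₗ[k] (Z (mkG G a ha hG hΦ) (p + d) (A (mkG G a ha hG hΦ) d)).M I :=
  LinearEquiv.ofBijective (omZ G a ha hG hΦ p hI) (omZ_bijective G a ha hG hΦ p hI)

theorem omE_nat (p : ℕ) {I J : Set ι} (hI : I.Nonempty) (h : I ⊆ J)
    (y : ⋀[B0 G I]^p Ω[B0 G I⁄k]) :
    omE G a ha hG hΦ p (hI.mono h) (powL (ρ0 G h) p y) =
      (Z (mkG G a ha hG hΦ) (p + d) (A (mkG G a ha hG hΦ) d)).res h (omE G a ha hG hΦ p hI y) :=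
  omZ_nat G a ha hG hΦ p hI h y

section Sch

variable {X : Scheme.{u}} (f : X ⟶ Spec (CommRingCat.of k)) {L : X.Modules} {p : ℕ}

/-- Sections of `Ω^p` as a `k`-module. -/
noncomputable def eK {W : X.Opens}
    (e : ⋀[SA f W]^p Ω[SA f W⁄k] ≃ₗ[SA f W] Γ(L, W)) : ⋀[SA f W]^p Ω[SA f W⁄k] ≃ₗ[k] Sec f L W :=
  { e.toAddEquiv with
    map_smul' := fun c x => by
      change e (c • x) = (secHom f W c • e x : Γ(L, W))
      rw [← algebraMap_smul (SA f W) c x, map_smul]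
      rfl }

variable {f} {U : ι → X.Opens} (aff : ∀ I : Set ι, I.Nonempty → IsAffineOpen (UI U I))
  (e : ∀ I : Set ι, I.Nonempty → (B0 G I ≃ₐ[k] SA f (UI U I)))

/-- The forms as sections. -/
noncomputable def omθ
    (E : ∀ W : X.affineOpens, ⋀[SA f W.1]^p Ω[SA f W.1⁄k] ≃ₗ[SA f W.1] Γ(L, W.1))
    (I : Set ι) (hI : I.Nonempty) :
    (Z (mkG G a ha hG hΦ) (p + d) (A (mkG G a ha hG hΦ) d)).M I ≃ₗ[k] (secSys f U L).M I :=
  ((omE G a ha hG hΦ p hI).symm.trans (powE (e I hI) p)).trans (eK f (E ⟨UI U I, aff I hI⟩))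

theorem omθ_omE
    (E : ∀ W : X.affineOpens, ⋀[SA f W.1]^p Ω[SA f W.1⁄k] ≃ₗ[SA f W.1] Γ(L, W.1))
    (I : Set ι) (hI : I.Nonempty) (x : ⋀[B0 G I]^p Ω[B0 G I⁄k]) :
    omθ G a ha hG hΦ aff e E I hI (omE G a ha hG hΦ p hI x) = E ⟨UI U I, aff I hI⟩ (powE (e I hI) p x) := by
  have h1 : (omE G a ha hG hΦ p hI).symm (omE G a ha hG hΦ p hI x) = x := LinearEquiv.symm_apply_apply _ _
  exact congrArg (fun z => E ⟨UI U I, aff I hI⟩ (powE (e I hI) p z)) h1

variable (he : ∀ (I J : Set ι) (hI : I.Nonempty) (h : I ⊆ J) (x : B0 G I),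
  resA f (UI_anti U h) (e I hI x) = e J (hI.mono h) (ρ0 G h x))

include he in
theorem powS_powE {I J : Set ι} (hI : I.Nonempty) (h : I ⊆ J)
    (x : ⋀[B0 G I]^p Ω[B0 G I⁄k]) :
    powS (resA f (UI_anti U h)) p (powE (e I hI) p x) =
      powE (e J (hI.mono h)) p (powL (ρ0 G h) p x) := by
  rw [powE_apply, powE_apply, powL_apply, powS_powS, powS_powS]
  exact powS_congr (fun s => he I J hI h s) p x

include aff e he in
/-- The sections of `Ω^p` as forms. -/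
theorem nonempty_secSys [QuasiCompact (pullback.diagonal f)]
    (hL : ExtPow.IsExtPow p (Omega.sheaf f) L) (q : ℕ) :
    Nonempty (H (Z (mkG G a ha hG hΦ) (p + d) (A (mkG G a ha hG hΦ) d)) q ≃ₗ[k] H (secSys f U L) q) := by
  obtain ⟨E, hE⟩ := exists_equiv_family f hL
  refine Groth.Agent.Lefpen.H278.SysFam.nonempty_equiv_of_family (omθ G a ha hG hΦ aff e E) ?_ q
  intro I J hI h y
  obtain ⟨x, rfl⟩ := (omE G a ha hG hΦ p hI).surjective y
  have h1 := hE ⟨UI U I, aff I hI⟩ ⟨UI U J, aff J (hI.mono h)⟩ (UI_anti U h) (powE (e I hI) p x)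
  have h2 : omθ G a ha hG hΦ aff e E J (hI.mono h) (omE G a ha hG hΦ p (hI.mono h) (powL (ρ0 G h) p x)) =
      (secSys f U L).res h (omθ G a ha hG hΦ aff e E I hI (omE G a ha hG hΦ p hI x)) := by
    rw [omθ_omE, omθ_omE]
    refine Eq.trans ?_ h1.symm
    exact congrArg _ (powS_powE G e he hI h x).symm
  rw [omE_nat] at h2
  exact h2

end Sch

end K853.OmSecR
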