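import Groth.Agent.Lefpen.H728.LauSys
import Groth.Agent.Lefpen.H722.Ring

/-!
# The cohomology of the systems of forms of projective space over a ring

`pG n R`: the graded system of `P^n_R` (no equations).  `H^i (Z q 0) = 0` for `i ≠ q` and `H^q (Z q 0) ≃ R` for `q ≤ n`.
-/

set_option autoImplicit false
universe u

open Finset

namespace K853.PnAlg

open Groth.Agent.CohqA.LaurentCech Groth.Agent.CohqA.LaurentLoc
open Groth.Agent.Lefpen.H722.Sys Groth.Agent.Lefpen.H722.Ring Groth.Agent.Lefpen.H722.GSys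
open Groth.Agent.Lefpen.H728.LauSys

variable (n : ℕ) (R : Type u) [CommRing R]

/-- No degrees. -/
def a0 : Fin 0 → ℕ := fun j => j.elim0

/-- No equations. -/
def G0 : Fin 0 → MvPolynomial (Fin (n + 1)) R := fun j => j.elim0

theorem ha0 : ∀ j : Fin 0, 1 ≤ a0 j := fun j => j.elim0

theorem hG0 : ∀ j : Fin 0, (G0 n R j).IsHomogeneous (a0 j) := fun j => j.elim0

theorem hΦ0 : HasΦ (G0 n R) a0 := fun _ _ =>
  ⟨fun _ _ => 0, fun _ _ => Submodule.zero_mem _, fun _ _ h => absurd h (Nat.not_lt_zero _)⟩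

/-- The system of forms of projective space. -/
noncomputable def pG : GSys R (Fin (n + 1)) := mkG (G0 n R) a0 ha0 (hG0 n R) (hΦ0 n R)

variable {n R}

theorem JI_eq_bot (I : Set (Fin (n + 1))) : JI (G0 n R) I = ⊥ := by
  have h : (Set.range fun j => ofP I (G0 n R j)) = ∅ := by
    rw [Set.range_eq_empty]
  rw [JI, h, Ideal.span_empty]

theorem mk_injective (I : Set (Fin (n + 1))) : Function.Injective (mk (G0 n R) I) := by
  rw [injective_iff_map_eq_zero]
  intro x hx
  rw [mk_eq_zero_iff, JI_eq_bot, Ideal.mem_bot] at hx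
  exact hx

/-- Laurent polynomials of degree `m` as elements of the graded piece. -/
noncomputable def toGr (m : ℤ) : Hom (lau R (Fin (n + 1)) m) (O (pG n R) m) where
  app I :=
    { toFun := fun x => ⟨mk (G0 n R) I ⟨AddMonoidAlgebra.ofCoeff (toL x), mem_AI_of_mem_Lsub (toL_mem x)⟩,
        mk_mem_gr (G0 n R) (toL_mem x)⟩
      map_add' := fun x y => Subtype.ext (by
        change mk (G0 n R) I _ = mk (G0 n R) I _ + mk (G0 n R) I _
        rw [← map_add]
        rfl)
      map_smul' := fun c x => Subtype.ext (by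
        change mk (G0 n R) I _ = c • mk (G0 n R) I _
        rw [← map_smul]
        rfl) }
  nat h x := rfl

theorem toGr_bijective (m : ℤ) (I : Set (Fin (n + 1))) : Function.Bijective ((toGr (n := n) (R := R) m).app I) := by
  constructor
  · intro x y hxy
    have h1 := mk_injective I (congrArg Subtype.val hxy)
    have h2 := congrArg Subtype.val h1
    exact toL_injective (AddMonoidAlgebra.ofCoeff_injective h2)
  · rintro ⟨y, hy⟩
    obtain ⟨x, hx, rfl⟩ := exists_of_mem_gr (G0 n R) hy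
    exact ⟨ofL x.1.coeff hx, rfl⟩

theorem nonempty_toGr (m : ℤ) (p : ℕ) :
    Nonempty (H (lau R (Fin (n + 1)) m) p ≃ₗ[R] H (O (pG n R) m) p) :=
  nonempty_equiv_of_bijective (toGr m) (fun I _ => toGr_bijective m I) p

theorem subsingleton_O_succ {m : ℤ} (hm : -(n + 1 : ℤ) < m) (p : ℕ) :
    Subsingleton (H (O (pG n R) m) (p + 1)) := by
  obtain ⟨e⟩ := nonempty_toGr (n := n) (R := R) m (p + 1)
  have := subsingleton_H (k := R) (ι := Fin (n + 1)) (m := m) (p := p) (Or.inl (by
    rw [Fintype.card_fin]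
    push_cast
    exact hm))
  exact e.symm.toEquiv.subsingleton

theorem subsingleton_O_zero {m : ℤ} (hn : 1 ≤ n) (hm : m < 0) : Subsingleton (H (O (pG n R) m) 0) := by
  obtain ⟨e⟩ := nonempty_toGr (n := n) (R := R) m 0
  have := subsingleton_H0 (k := R) (ι := Fin (n + 1)) (m := m) (by
    rw [Fintype.card_fin]
    omega) hm
  exact e.symm.toEquiv.subsingleton

theorem nonempty_O_zero (hn : 1 ≤ n) : Nonempty (H (O (pG n R) 0) 0 ≃ₗ[R] R) := by
  obtain ⟨e⟩ := nonempty_toGr (n := n) (R := R) 0 0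
  obtain ⟨f⟩ := nonempty_h0_equiv (k := R) (ι := Fin (n + 1)) 0 (by
    rw [Fintype.card_fin]
    omega)
  exact ⟨e.symm.trans (f.trans Lsub_zero_equiv.symm)⟩

theorem subsingleton_O {m : ℤ} (hn : 1 ≤ n) (h1 : -(n + 1 : ℤ) < m) (h2 : m < 0) (p : ℕ) :
    Subsingleton (H (O (pG n R) m) p) := by
  cases p with
  | zero => exact subsingleton_O_zero hn h2
  | succ p => exact subsingleton_O_succ h1 p

theorem subsingleton_N (hn : 1 ≤ n) {q : ℕ} (hq : 1 ≤ q) (hqn : q ≤ n) (p : ℕ) :
    Subsingleton (H (N (pG n R) (pG n R).d q 0) p) :=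
  subsingleton_N0 (pG n R) q 0 p (subsingleton_O hn (by omega) (by omega) p)

/-- `H^i(Z q) ≃ H^{i+1}(Z (q+1))` for `q + 1 ≤ n`. -/
theorem nonempty_step (hn : 1 ≤ n) {q : ℕ} (hq : q + 1 ≤ n) (i : ℕ) :
    Nonempty (H (Z (pG n R) q 0) i ≃ₗ[R] H (Z (pG n R) (q + 1) 0) (i + 1)) :=
  nonempty_equiv_δ (isSES_Z (pG n R) q 0) i (subsingleton_N hn (by omega) hq i)
    (subsingleton_N hn (by omega) hq (i + 1))

theorem nonempty_bottom (i : ℕ) : Nonempty (H (O (pG n R) 0) i ≃ₗ[R] H (Z (pG n R) 0 0) i) := by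
  obtain ⟨e⟩ := nonempty_O0 (pG n R) 0 i
  obtain ⟨f⟩ := nonempty_Z_equiv_N (pG n R) 0 0 (le_refl 0) i
  exact ⟨e.trans f.symm⟩

/-- **Diagonal Hodge cohomology of projective space.** -/
theorem nonempty_diag (hn : 1 ≤ n) {q : ℕ} (hq : q ≤ n) : Nonempty (H (Z (pG n R) q 0) q ≃ₗ[R] R) := by
  induction q with
  | zero =>
    obtain ⟨e⟩ := nonempty_bottom (n := n) (R := R) 0
    obtain ⟨f⟩ := nonempty_O_zero (R := R) hn
    exact ⟨e.symm.trans f⟩
  | succ q ih =>
    obtain ⟨e⟩ := ih (by omega)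
    obtain ⟨f⟩ := nonempty_step (R := R) hn hq q
    exact ⟨f.symm.trans e⟩

/-- **Off-diagonal vanishing.** -/
theorem subsingleton_Z (hn : 1 ≤ n) (q i : ℕ) (h : i ≠ q) : Subsingleton (H (Z (pG n R) q 0) i) := by
  by_cases hq : n < q
  · exact subsingleton_Z_of_card_le (pG n R) q 0 (by rw [Fintype.card_fin]; omega) i
  have key : ∀ q ≤ n, ∀ i ≠ q, Subsingleton (H (Z (pG n R) q 0) i) := by
    intro q
    induction q with
    | zero =>
      intro _ i hi
      obtain ⟨i, rfl⟩ : ∃ j, i = j + 1 := ⟨i - 1, by omega⟩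
      obtain ⟨e⟩ := nonempty_bottom (n := n) (R := R) (i + 1)
      have := subsingleton_O_succ (n := n) (R := R) (m := 0) (by omega) i
      exact e.symm.toEquiv.subsingleton
    | succ q ih =>
      intro hq i hi
      cases i with
      | zero =>
        exact subsingleton_h0 (f := inclZ (pG n R) (q + 1) 0)
          (fun _ _ x y hxy => by
            have h1 := congrArg Subtype.val hxy
            exact Subtype.ext h1)
          (subsingleton_N hn (by omega) hq 0)
      | succ i =>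
        obtain ⟨e⟩ := nonempty_step (R := R) hn hq i
        have := ih (by omega) i (by omega)
        exact e.symm.toEquiv.subsingleton
  exact key q (by omega) i h

end K853.PnAlg
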