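import Groth.Agent.DeRhamSh.K853.PnGeo
import Groth.Agent.DeRhamSh.K853.ExtQ
import Groth.Agent.DeRhamSh.K853.HdRBasic
import Groth.Agent.DeRhamSh.K853.AffCompare

/-!
# The de Rham cohomology of projective space over a ring
-/

set_option autoImplicit false
universe u

open CategoryTheory AlgebraicGeometry Limits TopologicalSpace Opposite

namespace K853.PnDR

open K853.PnAlg Groth.Agent.Lefpen.H722.Sys Groth.Agent.Lefpen.H722.GSys

variable {n : ℕ} {R : Type u} [CommRing R]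

section Ext

variable [QuasiCompact (pullback.diagonal (CohB1.ProjSpace.toSpec n R))]
  {p : ℕ} {L : (CohB1.ProjSpace n R).Modules}
  (hL : ExtPow.IsExtPow p (Omega.sheaf (CohB1.ProjSpace.toSpec n R)) L) (hq : Coh.IsQCoh L)

include hL hq

theorem subsingleton_HH (hn : 1 ≤ n) {q : ℕ} (h : p ≠ q) : Subsingleton (Coh.HH (CohB1.ProjSpace n R) L q) := by
  let : Module R (Coh.HH (CohB1.ProjSpace n R) L q) :=
    Module.compHom _ (Coh.toGlobal (CohB1.ProjSpace.toSpec n R))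
  obtain ⟨e⟩ := K853.PnGeo.nonempty_Z hL hq q (fun _ _ => rfl)
  have := subsingleton_Z (R := R) hn p q h.symm
  exact e.symm.toEquiv.subsingleton

theorem nonempty_HH (hn : 1 ≤ n) (hp : p ≤ n) [Module R (Coh.HH (CohB1.ProjSpace n R) L p)]
    (hsmul : ∀ (a : R) (x : Coh.HH (CohB1.ProjSpace n R) L p),
      a • x = (Coh.toGlobal (CohB1.ProjSpace.toSpec n R) a) • x) :
    Nonempty (Coh.HH (CohB1.ProjSpace n R) L p ≃ₗ[R] R) := by
  obtain ⟨e⟩ := K853.PnGeo.nonempty_Z hL hq p hsmul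
  obtain ⟨f⟩ := nonempty_diag (R := R) hn hp
  exact ⟨e.symm.trans f⟩

/-- `Ω^p = 0` in cohomology for `p > n`. -/
theorem subsingleton_HH_of_lt (hp : n < p) (q : ℕ) :
    Subsingleton (Coh.HH (CohB1.ProjSpace n R) L q) := by
  let : Module R (Coh.HH (CohB1.ProjSpace n R) L q) :=
    Module.compHom _ (Coh.toGlobal (CohB1.ProjSpace.toSpec n R))
  obtain ⟨e⟩ := K853.PnGeo.nonempty_Z hL hq q (fun _ _ => rfl)
  have := subsingleton_Z_of_card_le (pG n R) p 0 (by rw [Fintype.card_fin]; omega) q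
  exact e.symm.toEquiv.subsingleton

end Ext

variable [QuasiSeparated (CohB1.ProjSpace.toSpec n R)]

theorem isQCoh_term (D : DeRhamSh.OmegaCx (CohB1.ProjSpace.toSpec n R)) (p : ℕ) : Coh.IsQCoh (D.term p) :=
  ExtQ.isQCoh_of_isExtPow (Groth.Agent.Dual.H328.ClopenGlue.isQCoh_omega _) (D.isExtPow p)

variable [HasDerivedCategory.{u} (Sheaf (Opens.grothendieckTopology ↥(CohB1.ProjSpace n R)) AddCommGrpCat.{u})]

theorem nonempty_linearEquiv (hn : 1 ≤ n) (D : DeRhamSh.OmegaCx (CohB1.ProjSpace.toSpec n R))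
    (h : KLinDR.TermwiseLinear (Coh.toGlobal (CohB1.ProjSpace.toSpec n R)) D.K D.term D.iso)
    (i : ℕ) (hi : i ≤ n) :
    Nonempty (KLinDR.HdR (Coh.toGlobal (CohB1.ProjSpace.toSpec n R)) D h (2 * (i : ℤ)) ≃ₗ[R] R) := by
  let : ∀ p q : ℕ, Module R (Coh.HH (CohB1.ProjSpace n R) (D.term p) q) := fun p q =>
    Module.compHom _ (Coh.toGlobal (CohB1.ProjSpace.toSpec n R))
  obtain ⟨e⟩ := nonempty_HH (D.isExtPow i) (isQCoh_term D i) hn hi (fun _ _ => rfl)
  obtain ⟨f⟩ := K853.HdRBasic.nonempty_hdR_linearEquiv D h i i (fun _ _ _ _ => rfl)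
    (fun p q hpq hp => subsingleton_HH (D.isExtPow p) (isQCoh_term D p) hn (by omega))
    (fun p q hpq hp => subsingleton_HH (D.isExtPow p) (isQCoh_term D p) hn (by omega))
    (fun p q hpq hp => subsingleton_HH (D.isExtPow p) (isQCoh_term D p) hn (by omega))
  rw [two_mul]
  exact ⟨f.trans e⟩

theorem nonempty_addEquiv (hn : 1 ≤ n) (D : DeRhamSh.OmegaCx (CohB1.ProjSpace.toSpec n R)) (i : ℕ) (hi : i ≤ n) :
    Nonempty (DeRhamSh.HdR D (2 * (i : ℤ)) ≃+ R) := by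
  obtain ⟨e⟩ := nonempty_linearEquiv hn D (K853.CxAff.termwiseLinear _ D) i hi
  exact ⟨KLinDR.HTρ.toHT.symm.trans e.toAddEquiv⟩

theorem subsingleton (hn : 1 ≤ n) (D : DeRhamSh.OmegaCx (CohB1.ProjSpace.toSpec n R)) (m : ℤ)
    (hm : ∀ i : ℕ, i ≤ n → m ≠ 2 * (i : ℤ)) : Subsingleton (DeRhamSh.HdR D m) := by
  refine K853.HdRBasic.hdR_subsingleton D m fun p q hpq => ?_
  by_cases hp : n < p
  · exact subsingleton_HH_of_lt (D.isExtPow p) (isQCoh_term D p) hp q
  · refine subsingleton_HH (D.isExtPow p) (isQCoh_term D p) hn ?_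
    rintro rfl
    exact hm p (by omega) (by omega)

end K853.PnDR
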