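import Groth.Agent.CohqA.LaurentProj
import Groth.Agent.CohqB.P1Charts
import Groth.Agent.DeRhamSh.K853.SecSysR
import Groth.Agent.DeRhamSh.K853.PnAlg
import Groth.Agent.DeRhamSh.K853.OmSecR

/-!
# Functions on the opens `D_+(T_I)` of projective space over a ring

`W i = D_+(T_i)`, `UI W I = D_+(T_I)`; `pe hI : F0 I ≃ₐ[R] SA (toSpec n R) (UI W I)`, compatible with restriction.
-/

set_option autoImplicit false
universe u

open CategoryTheory AlgebraicGeometry Limits TopologicalSpace Opposite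

namespace K853.PnGeo

open Groth.Agent.CohqA.LaurentCech Groth.Agent.CohqA.LaurentLoc Groth.Agent.CohqA.LaurentProj
open Groth.Agent.Lefpen.H722.Sys Groth.Agent.Lefpen.H722.Ring Groth.Agent.Lefpen.H722.GSys
open Groth.Agent.Lefpen.H722.Hodge
open Groth.Agent.Lefpen.H721.OmegaSec Groth.Agent.Lefpen.H721.Dehom Groth.Agent.Lefpen.H721.OmegaPow
open Groth.Agent.Lefpen.H721.OmZ
open Groth.Agent.CurvesB.OmegaDer Groth.Agent.CurvesB.OmegaStalkDict
open K853.SecSysR K853.PnAlg

theorem mem_biInf {X : Type*} [TopologicalSpace X] {ι : Type} [Finite ι] (U : ι → Opens X) (I : Set ι) (x : X) :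
    x ∈ (⨅ i ∈ I, U i) ↔ ∀ i ∈ I, x ∈ U i := by
  rw [← SetLike.mem_coe, iInf_subtype', Opens.coe_iInf]
  simp

section Ind

variable {n : ℕ}

open Classical in
/-- The exponent of the product of the variables in `I`. -/
noncomputable def indC (I : Set (Fin (n + 1))) : Fin (n + 1) →₀ ℕ :=
  Finsupp.equivFunOnFinite.symm fun i => if i ∈ I then 1 else 0

open Classical in
theorem indC_apply (I : Set (Fin (n + 1))) (i : Fin (n + 1)) : indC I i = if i ∈ I then 1 else 0 := rfl

theorem indC_support (I : Set (Fin (n + 1))) : ((indC I).support : Set (Fin (n + 1))) = I := by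
  ext i
  simp [indC_apply]

theorem indC_ne_zero {I : Set (Fin (n + 1))} (hI : I.Nonempty) : indC I ≠ 0 := by
  obtain ⟨i, hi⟩ := hI
  intro h
  have h1 := DFunLike.congr_fun h i
  rw [indC_apply, if_pos hi] at h1
  exact one_ne_zero h1

end Ind

variable (n : ℕ) (R : Type u) [CommRing R]

/-- `D_+(X^c)`, as an open of `CohB1.ProjSpace`. -/
noncomputable def DpS (c : Fin (n + 1) →₀ ℕ) : (CohB1.ProjSpace n R).Opens := Dp R c

/-- The standard charts. -/
noncomputable def W (i : Fin (n + 1)) : (CohB1.ProjSpace n R).Opens := DpS n R (Finsupp.single i 1)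

theorem W_eq (i : Fin (n + 1)) : W n R i = Groth.Agent.CohqB.P1Charts.D n R i := rfl

theorem iSup_W : ⨆ i, W n R i = ⊤ := by
  have h := Proj.iSup_basicOpen_eq_top (CohB1.polyGrading n R)
    (MvPolynomial.X : Fin (n + 1) → MvPolynomial (Fin (n + 1)) R) (by
      intro p hp
      change p ∈ MvPolynomial.idealOfVars (Fin (n + 1)) R
      rw [← pow_one (MvPolynomial.idealOfVars _ _), MvPolynomial.mem_pow_idealOfVars_iff']
      intro m hm
      obtain rfl : m = 0 := by
        rw [Nat.lt_one_iff, Finsupp.degree_eq_zero_iff] at hm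
        exact hm
      have h0 : (DirectSum.decompose (CohB1.polyGrading n R) p 0 : MvPolynomial (Fin (n + 1)) R) =
          MvPolynomial.homogeneousComponent 0 p := MvPolynomial.decomposition.decompose'_apply p 0
      have h1 := (HomogeneousIdeal.mem_irrelevant_iff _ _).mp hp
      rw [GradedRing.proj_apply, h0] at h1
      have h2 := congrArg (MvPolynomial.coeff 0) h1
      simpa using h2)
  exact h

variable {n R}

theorem mem_DpS (c : Fin (n + 1) →₀ ℕ) (x : CohB1.ProjSpace n R) :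
    x ∈ DpS n R c ↔ ∀ i ∈ c.support, x ∈ W n R i := by
  have h1 : x ∈ DpS n R c ↔
      (MvPolynomial.monomial c (1 : R)) ∉ (ProjectiveSpectrum.asHomogeneousIdeal x).toIdeal := Iff.rfl
  have h2 : ∀ i, x ∈ W n R i ↔
      (MvPolynomial.X i : MvPolynomial (Fin (n + 1)) R) ∉ (ProjectiveSpectrum.asHomogeneousIdeal x).toIdeal :=
    fun i => Iff.rfl
  have hp : (ProjectiveSpectrum.asHomogeneousIdeal x).toIdeal.IsPrime := ProjectiveSpectrum.isPrime x
  rw [h1, MvPolynomial.monomial_eq, map_one, one_mul, Finsupp.prod, hp.prod_mem_iff]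
  push Not
  refine forall₂_congr fun i hi => ?_
  rw [h2, hp.pow_mem_iff_mem _ (Nat.pos_of_ne_zero (Finsupp.mem_support_iff.1 hi))]

theorem UI_W (I : Set (Fin (n + 1))) : UI (W n R) I = DpS n R (indC I) := by
  ext x
  rw [SetLike.mem_coe, SetLike.mem_coe, mem_DpS, UI, mem_biInf]
  have h1 : ∀ i, i ∈ (indC I).support ↔ i ∈ I := fun i => by
    rw [← Finset.mem_coe, indC_support]
  simp_rw [h1]

theorem isAffineOpen_UI {I : Set (Fin (n + 1))} (hI : I.Nonempty) : IsAffineOpen (UI (W n R) I) := by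
  rw [UI_W]
  exact Proj.isAffineOpen_basicOpen (CohB1.polyGrading n R) _ (monomial_mem (indC I))
    (degree_pos (indC_ne_zero hI))

/-- Evaluation of functions as Laurent polynomials. -/
noncomputable def evS (V : (CohB1.ProjSpace n R).Opens) (hV : DpS n R (ones n) ≤ V) :
    Γ(CohB1.ProjSpace n R, V) →+* LR (Fin (n + 1)) R :=
  ev (n := n) (R := R) V hV

theorem evS_res {V W : (CohB1.ProjSpace n R).Opens} (hV : DpS n R (ones n) ≤ V) (h : V ≤ W)
    (s : Γ(CohB1.ProjSpace n R, W)) :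
    evS V hV ((CohB1.ProjSpace n R).presheaf.map (homOfLE h).op s) = evS W (hV.trans h) s :=
  ev_map (n := n) (R := R) hV h s

theorem ones_le_W (j : Fin (n + 1)) : DpS n R (ones n) ≤ W n R j := ones_le (Finsupp.single j 1)

theorem ones_le_UI (I : Set (Fin (n + 1))) : DpS n R (ones n) ≤ UI (W n R) I := by
  rw [UI_W]
  exact ones_le (indC I)

/-- Constants. -/
theorem evS_secHom (V : (CohB1.ProjSpace n R).Opens) (hV : DpS n R (ones n) ≤ V) (c : R) :
    evS V hV (secHom (CohB1.ProjSpace.toSpec n R) V c) = algebraMap R (LR (Fin (n + 1)) R) c := by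
  have h1 : ∀ (W : (CohB1.ProjSpace n R).Opens) (hW : DpS n R (ones n) ≤ W),
      evS W hW (secHom (CohB1.ProjSpace.toSpec n R) W c) =
        evS (DpS n R (ones n)) le_rfl (secHom (CohB1.ProjSpace.toSpec n R) (DpS n R (ones n)) c) :=
    fun W hW => by
      rw [← res_secHom (CohB1.ProjSpace.toSpec n R) hW c]
      exact (evS_res le_rfl hW _).symm
  rw [h1 V hV, ← h1 (W n R 0) (ones_le_W 0)]
  have hc : Finsupp.single (0 : Fin (n + 1)) 1 ≠ (0 : Fin (n + 1) →₀ ℕ) := by simp
  have h2 : secHom (CohB1.ProjSpace.toSpec n R) (W n R 0) c =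
      (secIso (n := n) (R := R) (Finsupp.single 0 1) hc).hom
        (Groth.Agent.CohqB.ProjBC.awayAlg n (MvPolynomial.X 0) c) := by
    rw [secHom_eq, secIso_hom]
    refine (congr($(Groth.Agent.CohqB.P1Charts.toSpec_appLE n R 0).hom
      ((Scheme.ΓSpecIso (CommRingCat.of R)).inv.hom c))).trans ?_
    have h3 : (Scheme.ΓSpecIso (CommRingCat.of R)).hom.hom ((Scheme.ΓSpecIso (CommRingCat.of R)).inv.hom c) = c :=
      congr($((Scheme.ΓSpecIso (CommRingCat.of R)).inv_hom_id).hom c)
    change (Groth.Agent.CohqB.P1Charts.sec n R 0).hom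
      (Groth.Agent.CohqB.ProjBC.awayAlg n (MvPolynomial.X 0)
        ((Scheme.ΓSpecIso (CommRingCat.of R)).hom.hom ((Scheme.ΓSpecIso (CommRingCat.of R)).inv.hom c))) = _
    rw [h3]
    rfl
  rw [h2]
  refine (ev_secIso (n := n) (R := R) (Finsupp.single 0 1) hc _).trans ?_
  refine (awayToLR_apply _ _).trans ?_
  refine (toLR_algebraMap _ (MvPolynomial.C c)).trans ?_
  rw [MvPolynomial.C_apply, toLaurent_monomial, map_zero]
  rfl

theorem mem_AI_gr {I : Set (Fin (n + 1))} {s : Γ(CohB1.ProjSpace n R, UI (W n R) I)} (hI : I.Nonempty) :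
    (evS (UI (W n R) I) (ones_le_UI I) s).coeff ∈ Lsub R 0 I := by
  have h1 := ev_mem (n := n) (R := R) (indC I) (indC_ne_zero hI) (UI_W I) (ones_le_UI I) s
  rw [indC_support] at h1
  exact h1

/-- Functions on `D_+(T_I)`, in the model. -/
noncomputable def toF (I : Set (Fin (n + 1))) (hI : I.Nonempty) :
    SA (CohB1.ProjSpace.toSpec n R) (UI (W n R) I) →ₐ[R] B0 (G0 n R) I where
  toFun s := ⟨mk (G0 n R) I ⟨evS (UI (W n R) I) (ones_le_UI I) s, mem_AI_of_mem_Lsub (mem_AI_gr hI)⟩,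
    mk_mem_gr (G0 n R) (m := 0) (mem_AI_gr hI)⟩
  map_one' := Subtype.ext (by
    change mk (G0 n R) I _ = 1
    rw [← map_one (mk (G0 n R) I)]
    congr 1
    exact Subtype.ext (map_one _))
  map_mul' x y := Subtype.ext (by
    change mk (G0 n R) I _ = mk (G0 n R) I _ * mk (G0 n R) I _
    rw [← map_mul (mk (G0 n R) I)]
    congr 1
    exact Subtype.ext (map_mul _ _ _))
  map_zero' := Subtype.ext (by
    change mk (G0 n R) I _ = 0
    rw [← map_zero (mk (G0 n R) I)]
    congr 1
    exact Subtype.ext (map_zero _))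
  map_add' x y := Subtype.ext (by
    change mk (G0 n R) I _ = mk (G0 n R) I _ + mk (G0 n R) I _
    rw [← map_add (mk (G0 n R) I)]
    congr 1
    exact Subtype.ext (map_add _ _ _))
  commutes' c := Subtype.ext (by
    change mk (G0 n R) I _ = algebraMap R (F (G0 n R) I) c
    rw [← AlgHom.commutes (mk (G0 n R) I) c]
    congr 1
    exact Subtype.ext (evS_secHom _ _ c))

theorem toF_bijective (I : Set (Fin (n + 1))) (hI : I.Nonempty) : Function.Bijective (toF (n := n) (R := R) I hI) := by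
  constructor
  · intro s t h
    have h1 := mk_injective I (congrArg Subtype.val h)
    exact ev_injective (n := n) (R := R) (indC I) (indC_ne_zero hI) (UI_W I) (ones_le_UI I)
      (congrArg Subtype.val h1)
  · rintro ⟨y, hy⟩
    obtain ⟨x, hx, rfl⟩ := exists_of_mem_gr (G0 n R) hy
    obtain ⟨s, hs⟩ := exists_ev (n := n) (R := R) (indC I) (indC_ne_zero hI) (UI_W I)
      (ones_le_UI I) x.1.coeff (by rw [indC_support]; exact hx)
    refine ⟨s, Subtype.ext ?_⟩
    change mk (G0 n R) I _ = mk (G0 n R) I x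
    congr 1
    exact Subtype.ext (AddMonoidAlgebra.coeff_injective hs)

/-- Functions on `D_+(T_I)`, from the model. -/
noncomputable def pe (I : Set (Fin (n + 1))) (hI : I.Nonempty) :
    B0 (G0 n R) I ≃ₐ[R] SA (CohB1.ProjSpace.toSpec n R) (UI (W n R) I) :=
  (AlgEquiv.ofBijective (toF I hI) (toF_bijective I hI)).symm

theorem toF_res {I J : Set (Fin (n + 1))} (hI : I.Nonempty) (h : I ⊆ J)
    (s : SA (CohB1.ProjSpace.toSpec n R) (UI (W n R) I)) :
    toF J (hI.mono h) (resA (CohB1.ProjSpace.toSpec n R) (UI_anti (W n R) h) s) =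
      ρ0 (G0 n R) h (toF I hI s) := by
  apply Subtype.ext
  change mk (G0 n R) J _ = mk (G0 n R) J _
  congr 1

theorem resA_pe {I J : Set (Fin (n + 1))} (hI : I.Nonempty) (h : I ⊆ J) (x : B0 (G0 n R) I) :
    resA (CohB1.ProjSpace.toSpec n R) (UI_anti (W n R) h) (pe I hI x) =
      pe J (hI.mono h) (ρ0 (G0 n R) h x) := by
  obtain ⟨s, rfl⟩ := (AlgEquiv.ofBijective (toF I hI) (toF_bijective I hI)).surjective x
  have h1 : pe I hI ((AlgEquiv.ofBijective (toF I hI) (toF_bijective I hI)) s) = s :=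
    AlgEquiv.symm_apply_apply _ s
  rw [h1]
  refine (AlgEquiv.eq_symm_apply _).2 (toF_res hI h s)

theorem A_pG : A (pG n R) 0 = 0 := by
  unfold A
  rw [Finset.range_zero, Finset.sum_empty]

/-- **The Hodge cohomology of projective space** in terms of systems of forms. -/
theorem nonempty_Z {p : ℕ} {L : (CohB1.ProjSpace n R).Modules}
    [QuasiCompact (pullback.diagonal (CohB1.ProjSpace.toSpec n R))]
    (hL : ExtPow.IsExtPow p (Omega.sheaf (CohB1.ProjSpace.toSpec n R)) L) (hq : Coh.IsQCoh L) (q : ℕ)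
    [Module R (Coh.HH (CohB1.ProjSpace n R) L q)]
    (hsmul : ∀ (a : R) (x : Coh.HH (CohB1.ProjSpace n R) L q),
      a • x = (Coh.toGlobal (CohB1.ProjSpace.toSpec n R) a) • x) :
    Nonempty (H (Z (pG n R) p 0) q ≃ₗ[R] Coh.HH (CohB1.ProjSpace n R) L q) := by
  obtain ⟨e⟩ := K853.OmSecR.nonempty_secSys (G0 n R) a0 ha0 (hG0 n R) (hΦ0 n R)
    (f := CohB1.ProjSpace.toSpec n R) (U := W n R) (fun I hI => isAffineOpen_UI hI) pe
    (fun I J hI h x => resA_pe hI h x) hL q
  have h0 : A (mkG (G0 n R) a0 ha0 (hG0 n R) (hΦ0 n R)) 0 = 0 := A_pG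
  rw [h0] at e
  obtain ⟨e'⟩ := SecSysR.nonempty_equiv (CohB1.ProjSpace.toSpec n R) (W n R) (iSup_W n R)
    (fun s hs => isAffineOpen_UI (I := (s : Set (Fin (n + 1)))) hs) L hq q hsmul
  exact ⟨(show H (Z (pG n R) p 0) q ≃ₗ[R] _ from e).trans e'⟩

end K853.PnGeo
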