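import Groth.Agent.DeRham.K852.Poly
import Groth.Agent.DeRhamSh.K853.RingCx
import Groth.Agent.DeRhamSh.K853.ExistD
import Mathlib.Algebra.MvPolynomial.Equiv
import Mathlib.Algebra.Algebra.Rat

/-!
# The de Rham cohomology of polynomial rings over a field of characteristic zero
-/

set_option autoImplicit false

universe u

open exteriorPower Polynomial

namespace K853.PolyDR

open K852.DR

section

variable {R A : Type u} [CommRing R] [CommRing A] [Algebra R A] [Algebra ℚ R]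
  {d : ∀ p : ℕ, ↥(⋀[A]^p (Ω[A⁄R])) →ₗ[R] ↥(⋀[A]^(p + 1) (Ω[A⁄R]))}
  {d' : ∀ p : ℕ, ↥(⋀[A[X]]^p (Ω[A[X]⁄R])) →ₗ[R] ↥(⋀[A[X]]^(p + 1) (Ω[A[X]⁄R]))}

/-- Homotopy invariance: `H(A) ≃ H(A[X])`. -/
theorem nonempty_polynomial (hd : DeRham.IsRule (KaehlerDifferential.D R A) d)
    (hd' : DeRham.IsRule (KaehlerDifferential.D R A[X]) d') (n : ℕ) :
    Nonempty (SeqCoh.H d n ≃ₗ[R] SeqCoh.H d' n) := by
  let φ : A →ₐ[R] A[X] := IsScalarTower.toAlgHom R A A[X]
  let ψ : ∀ p : ℕ, ↥(⋀[A]^p (Ω[A⁄R])) →ₗ[R] ↥(⋀[A[X]]^p (Ω[A[X]⁄R])) := fun p =>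
    Groth.Agent.Lefpen.H721.OmegaPow.powL φ p
  have hψ : DeRham.IsCxMap (KaehlerDifferential.D R A) (KaehlerDifferential.D R A[X])
      (algebraMap A A[X]) (fun p => (ψ p).toAddMonoidHom) :=
    isCxMap_psi (δ := KaehlerDifferential.D R A) (δ' := KaehlerDifferential.D R A[X])
      (Groth.Agent.Lefpen.H721.OmegaPow.omS φ) (Groth.Agent.Lefpen.H721.OmegaPow.omS_D φ)
  have hc : ∀ p x, ψ (p + 1) (d p x) = d' p (ψ p x) := fun p x => RingCx.powS_comm φ hd hd' p x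
  obtain ⟨h1, h2⟩ := poincare_polynomial hd hd' hψ n
  have hB : ∀ x, x ∈ SeqCoh.B d n → ψ n x ∈ SeqCoh.B d' n := by
    intro x hx
    cases n with
    | zero =>
      rw [SeqCoh.mem_B_zero_iff] at hx ⊢
      rw [hx, map_zero]
    | succ n =>
      obtain ⟨y, rfl⟩ := hx
      exact ⟨ψ n y, (hc n y).symm⟩
  rw [RingCx.coboundaries_eq] at h1 h2
  let Φ : SeqCoh.Z d n →ₗ[R] SeqCoh.H d' n := (Submodule.mkQ _).comp
    (LinearMap.codRestrict (SeqCoh.Z d' n) ((ψ n).comp (SeqCoh.Z d n).subtype) fun x => by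
      rw [SeqCoh.mem_Z_iff]
      change d' n (ψ n x.1) = 0
      rw [← hc, (show d n x.1 = 0 from x.2), map_zero])
  refine ⟨SeqCoh.equivOfSurj d n Φ (fun y => ?_) fun x => ?_⟩
  · obtain ⟨y, rfl⟩ := Submodule.Quotient.mk_surjective _ y
    obtain ⟨x, hx, hxy⟩ := h1 y.1 y.2
    refine ⟨⟨x, hx⟩, ?_⟩
    refine (Submodule.Quotient.eq _).mpr ?_
    have h3 : ψ n x - y.1 ∈ SeqCoh.B d' n := by
      have := (SeqCoh.B d' n).neg_mem hxy
      rwa [neg_sub] at this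
    exact h3
  · constructor
    · intro h
      exact h2 x.1 x.2 ((SeqCoh.mk_eq_zero_iff (d := d') _).mp h)
    · intro h
      exact (SeqCoh.mk_eq_zero_iff (d := d') _).mpr (hB x.1 h)

end

section Base

variable {k : Type u} [Field k]

/-- Acyclicity of the de Rham complex of an algebra. -/
def Acyc (k : Type u) [Field k] (B : Type u) [CommRing B] [Algebra k B] : Prop :=
  ∀ d : ∀ p : ℕ, ↥(⋀[B]^p (Ω[B⁄k])) →ₗ[k] ↥(⋀[B]^(p + 1) (Ω[B⁄k])), DeRham.IsRule (KaehlerDifferential.D k B) d →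
    (∀ m, 0 < m → Subsingleton (SeqCoh.H d m)) ∧ Nonempty (SeqCoh.H d 0 ≃ₗ[k] k)

theorem acyc_of_algEquiv {B C : Type u} [CommRing B] [Algebra k B] [CommRing C] [Algebra k C] (e : B ≃ₐ[k] C)
    (h : Acyc k B) : Acyc k C := by
  intro d hd
  obtain ⟨d', hd'⟩ := ExistD.exists_isDiff k B
  obtain ⟨h1, ⟨h2⟩⟩ := h d' hd'.1
  have hc := RingCx.nonempty_congr_algEquiv e hd'.1 hd
  refine ⟨fun m hm => ?_, ⟨(hc 0).some.symm.trans h2⟩⟩
  have := h1 m hm
  exact (hc m).some.symm.toEquiv.subsingleton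

theorem acyc_base : Acyc k k := by
  intro d hd
  have h0 : Subsingleton (Ω[k⁄k]) := KaehlerDifferential.subsingleton_of_surjective k k (fun x => ⟨x, rfl⟩)
  have hs : ∀ m, Subsingleton ↥(⋀[k]^(m + 1) (Ω[k⁄k])) := by
    intro m
    refine ⟨fun x y => ?_⟩
    have key : ∀ z : ↥(⋀[k]^(m + 1) (Ω[k⁄k])), z = 0 := fun z =>
      wedge1_induction m (P := fun z => z = 0) (fun v x => by
        rw [Subsingleton.elim v 0, map_zero, LinearMap.zero_apply]) rfl
        (fun x y hx hy => by rw [hx, hy, add_zero]) z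
    rw [key x, key y]
  refine ⟨fun m hm => ?_, ?_⟩
  · obtain ⟨m, rfl⟩ : ∃ m', m = m' + 1 := ⟨m - 1, by omega⟩
    have := hs m
    have h1 : Subsingleton (SeqCoh.Z d (m + 1)) := inferInstance
    exact Quot.Subsingleton
  · have h1 : ∀ x : ↥(⋀[k]^0 (Ω[k⁄k])), x ∈ SeqCoh.Z d 0 := fun x => by
      rw [SeqCoh.mem_Z_iff]
      exact Subsingleton.elim (h := hs 0) _ _
    refine ⟨SeqCoh.equivOfSurj d 0 ((zeroEquiv k (Ω[k⁄k])).toLinearMap.comp (SeqCoh.Z d 0).subtype)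
      (fun y => ⟨⟨(zeroEquiv k (Ω[k⁄k])).symm y, h1 _⟩, ?_⟩) (fun x => ?_)⟩
    · exact (zeroEquiv k (Ω[k⁄k])).apply_symm_apply y
    · rw [SeqCoh.mem_B_zero_iff]
      exact LinearEquiv.map_eq_zero_iff (zeroEquiv k (Ω[k⁄k]))

theorem acyc_polynomial [CharZero k] {B : Type u} [CommRing B] [Algebra k B] (h : Acyc k B) : Acyc k B[X] := by
  intro d hd
  let _ : Algebra ℚ k := DivisionRing.toRatAlgebra
  obtain ⟨d', hd'⟩ := ExistD.exists_isDiff k B
  obtain ⟨h1, ⟨h2⟩⟩ := h d' hd'.1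
  have hc := nonempty_polynomial hd'.1 hd
  refine ⟨fun m hm => ?_, ⟨(hc 0).some.symm.trans h2⟩⟩
  have := h1 m hm
  exact (hc m).some.symm.toEquiv.subsingleton

/-- **The Poincaré lemma** for polynomial rings over a field of characteristic zero. -/
theorem acyc_mvPolynomial (k : Type u) [Field k] [CharZero k] (n : ℕ) : Acyc k (MvPolynomial (Fin n) k) := by
  induction n with
  | zero => exact acyc_of_algEquiv (MvPolynomial.isEmptyAlgEquiv k (Fin 0)).symm acyc_base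
  | succ n ih => exact acyc_of_algEquiv (MvPolynomial.finSuccEquiv k n).symm (acyc_polynomial ih)

end Base

end K853.PolyDR
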