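import Groth.Agent.DeRhamSh.K853.VanAsm
import Groth.Agent.DeRhamSh.K184.GlueD
import Groth.Agent.DeRhamSh.K205.RedTop

/-!
# The differential is zero on the top cohomology, from the constancy of the class of the diagonal
-/

set_option autoImplicit false
universe u

open CategoryTheory CategoryTheory.Limits AlgebraicGeometry Opposite TopologicalSpace

namespace K853.Row15537

theorem main (hD : ∀ e, K853.VanAsm.DIAG.{u} e) {S X : Scheme.{u}} (f : X ⟶ S) [IsProper f] (e : ℕ)
    [SmoothOfRelativeDimension (e + 1) f] (D : DeRhamSh.OmegaCx f) :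
    (Coh.RpushAb f (e + 1)).map ((D.iso e).inv ≫ D.K.d e (e + 1) ≫ (D.iso (e + 1)).hom) = 0 :=
  K205.RedTop.main (fun e => K854.LocAsm.loc_of_van e (K853.VanAsm.van_of_diag e (fun A _ X f _ _ D => by
    have : Smooth f := SmoothOfRelativeDimension.smooth (e + 1) f
    exact ⟨K184.GlueD.isFP_term f D (e + 1), K184.GlueD.isFlatOver_term f D (e + 1)⟩) (hD e))) f e D

end K853.Row15537
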