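import Groth.Agent.DeRhamSh.K853.SigmaSES

/-!
# Hypercohomology of a single sheaf placed in degree `i`
-/

set_option autoImplicit false

universe w' w v u u'

open CategoryTheory CategoryTheory.Limits CategoryTheory.Pretriangulated Opposite E1Deg KLinDR

namespace K853.SheafHT

open HTExact SigmaSES

section general

variable {A : Type u} [Category.{v} A] [Abelian A] [HasDerivedCategory.{w} A] [HasExt.{w'} A]

omit [HasExt.{w'} A] in
theorem targetIso_naturality {X Y : A} (φ : X ⟶ Y) (i a : ℤ) (m : ℕ) (h : i + m = a) :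
    (shiftFunctor (DerivedCategory A) a).map
        (DerivedCategory.Q.map ((HomologicalComplex.single A (ComplexShape.up ℤ) i).map φ)) ≫
          (targetIso Y i a m h).hom =
      (targetIso X i a m h).hom ≫
        (shiftFunctor (DerivedCategory A) (m : ℤ)).map ((DerivedCategory.singleFunctor A 0).map φ) := by
  let e : ∀ Z : A, DerivedCategory.Q.obj ((HomologicalComplex.single A (ComplexShape.up ℤ) i).obj Z) ⟶
      (shiftFunctor (DerivedCategory A) (-i)).obj ((DerivedCategory.singleFunctor A 0).obj Z) := fun Z =>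
    ((DerivedCategory.singleFunctorIsoCompQ A i).inv.app Z) ≫
      (((DerivedCategory.singleFunctors A).shiftIso (-i) i 0 (by omega)).inv.app Z)
  have key : DerivedCategory.Q.map ((HomologicalComplex.single A (ComplexShape.up ℤ) i).map φ) ≫ e Y =
      e X ≫ (shiftFunctor (DerivedCategory A) (-i)).map ((DerivedCategory.singleFunctor A 0).map φ) := by
    have h1 := (DerivedCategory.singleFunctorIsoCompQ A i).inv.naturality φ
    have h2 := ((DerivedCategory.singleFunctors A).shiftIso (-i) i 0 (by omega)).inv.naturality φ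
    refine (Category.assoc _ _ _).symm.trans ?_
    refine (congrArg (fun t => t ≫ _) h1).trans ?_
    refine (Category.assoc _ _ _).trans ?_
    refine (congrArg (fun t => _ ≫ t) h2).trans ?_
    exact (Category.assoc _ _ _).symm
  have h3 := (shiftFunctorAdd' (DerivedCategory A) (-i) a (m : ℤ) (by omega)).inv.naturality
    ((DerivedCategory.singleFunctor A 0).map φ)
  have hT : ∀ Z : A, (targetIso Z i a m h).hom = (shiftFunctor (DerivedCategory A) a).map (e Z) ≫
      (shiftFunctorAdd' (DerivedCategory A) (-i) a (m : ℤ) (by omega)).inv.app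
        ((DerivedCategory.singleFunctor A 0).obj Z) := fun Z => rfl
  rw [hT, hT, ← Category.assoc, ← Functor.map_comp, key, Functor.map_comp, Category.assoc, Category.assoc]
  exact congrArg (fun t => (shiftFunctor (DerivedCategory A) a).map (e X) ≫ t) h3

theorem HTsingleEquiv_naturality (T : A) {X Y : A} (φ : X ⟶ Y) (i a : ℤ) (m : ℕ) (h : i + m = a)
    (x : HT T ((HomologicalComplex.single A (ComplexShape.up ℤ) i).obj X) a) :
    HTsingleEquiv.{w'} T Y i a m h (HTmap T ((HomologicalComplex.single A (ComplexShape.up ℤ) i).map φ) a x) =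
      (HTsingleEquiv.{w'} T X i a m h x).comp (Abelian.Ext.mk₀ φ) (add_zero m) := by
  apply Abelian.Ext.homAddEquiv.injective
  rw [Abelian.Ext.homAddEquiv_apply, Abelian.Ext.homAddEquiv_apply, Abelian.Ext.comp_hom, Abelian.Ext.mk₀_hom,
    ShiftedHom.comp_mk₀]
  change Abelian.Ext.homAddEquiv (Abelian.Ext.homAddEquiv.symm ((x ≫ _) ≫ (targetIso Y i a m h).hom)) =
    Abelian.Ext.homAddEquiv (Abelian.Ext.homAddEquiv.symm (x ≫ (targetIso X i a m h).hom)) ≫ _
  rw [AddEquiv.apply_symm_apply, AddEquiv.apply_symm_apply, Category.assoc, Category.assoc,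
    targetIso_naturality]

section main

variable (T T' : A) (eT : T ≅ T') (K : CochainComplex A ℤ) (M : ℕ → A) (e : ∀ p : ℕ, K.X (p : ℤ) ≅ M p)

/-- The graded pieces. -/
noncomputable def grEquiv (p q : ℕ) (n : ℤ) (h : (p : ℤ) + q = n) :
    HT T ((HomologicalComplex.single A (ComplexShape.up ℤ) (p : ℤ)).obj (K.X p)) n ≃+
      Abelian.Ext.{w'} T' (M p) q :=
  ((HTequiv T ((HomologicalComplex.single A (ComplexShape.up ℤ) (p : ℤ)).mapIso (e p)) n).trans
    (HTsingleEquiv.{w'} T (M p) p n q h)).trans (extCongrLeft eT (M p) q)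

theorem grEquiv_map (p q : ℕ) (n : ℤ) (h : (p : ℤ) + q = n) (φ : K.X p ⟶ K.X p) (μ : M p ⟶ M p)
    (hμ : φ = (e p).hom ≫ μ ≫ (e p).inv)
    (x : HT T ((HomologicalComplex.single A (ComplexShape.up ℤ) (p : ℤ)).obj (K.X p)) n) :
    grEquiv T T' eT K M e p q n h
        (HTmap T ((HomologicalComplex.single A (ComplexShape.up ℤ) (p : ℤ)).map φ) n x) =
      (grEquiv T T' eT K M e p q n h x).comp (Abelian.Ext.mk₀ μ) (add_zero q) := by
  have h1 : HTmap T ((HomologicalComplex.single A (ComplexShape.up ℤ) (p : ℤ)).map (e p).hom) n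
      (HTmap T ((HomologicalComplex.single A (ComplexShape.up ℤ) (p : ℤ)).map φ) n x) =
      HTmap T ((HomologicalComplex.single A (ComplexShape.up ℤ) (p : ℤ)).map μ) n
        (HTmap T ((HomologicalComplex.single A (ComplexShape.up ℤ) (p : ℤ)).map (e p).hom) n x) := by
    rw [← HTmap_comp, ← HTmap_comp, ← Functor.map_comp, ← Functor.map_comp, hμ]
    simp
  change extCongrLeft eT (M p) q (HTsingleEquiv.{w'} T (M p) p n q h (HTmap T _ n _)) =
    Abelian.Ext.comp (extCongrLeft eT (M p) q (HTsingleEquiv.{w'} T (M p) p n q h (HTmap T _ n _))) _ _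
  erw [h1]
  rw [HTsingleEquiv_naturality]
  exact (Abelian.Ext.comp_assoc_of_third_deg_zero (Abelian.Ext.mk₀ eT.inv)
    (HTsingleEquiv.{w'} T (M p) p n q h
      (HTmap T ((HomologicalComplex.single A (ComplexShape.up ℤ) (p : ℤ)).map (e p).hom) n x))
    (Abelian.Ext.mk₀ μ) (zero_add q)).symm

variable (hK : ∀ m : ℤ, m < 0 → IsZero (K.X m))

include eT e hK in
/-- Vanishing of hypercohomology. -/
theorem subsingleton_HT_of_ext (n : ℤ)
    (h : ∀ p q : ℕ, (p : ℤ) + q = n → Subsingleton (Abelian.Ext.{w'} T' (M p) q)) :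
    Subsingleton (HT T K n) := by
  refine subsingleton_HT T K n 0 hK (fun p hp hpn => ?_)
  lift p to ℕ using hp
  have := h p (n - p).toNat (by omega)
  exact (grEquiv T T' eT K M e p (n - p).toNat n (by omega)).toEquiv.subsingleton

section Lin

variable {R : Type u'} [CommRing R] (ρ : R →+* End K) (μ : ∀ p : ℕ, R → (M p ⟶ M p))
  (hμ : ∀ (p : ℕ) (a : R), (ρ a : K ⟶ K).f p = (e p).hom ≫ μ p a ≫ (e p).inv)

/-- The graded pieces, linearly. -/
noncomputable def grLin (p q : ℕ) (n : ℤ) (h : (p : ℤ) + q = n) [Module R (Abelian.Ext.{w'} T' (M p) q)]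
    (hsmul : ∀ (a : R) (x : Abelian.Ext.{w'} T' (M p) q), a • x = x.comp (Abelian.Ext.mk₀ (μ p a)) (add_zero q)) :
    HTρ T ((HomologicalComplex.single A (ComplexShape.up ℤ) (p : ℤ)).obj (K.X p)) (singρ ρ p) n ≃ₗ[R]
      Abelian.Ext.{w'} T' (M p) q :=
  { (HTρ.toHT.trans (grEquiv T T' eT K M e p q n h)) with
    map_smul' := fun a x => by
      refine (grEquiv_map T T' eT K M e p q n h ((ρ a : K ⟶ K).f p) (μ p a) (hμ p a) (HTρ.toHT x)).trans ?_
      exact (hsmul a _).symm }

include eT e hK hμ in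
/-- Finiteness of hypercohomology. -/
theorem finite_HTρ_of_ext [IsNoetherianRing R] (n : ℤ) [∀ p q : ℕ, Module R (Abelian.Ext.{w'} T' (M p) q)]
    (hsmul : ∀ (p q : ℕ) (a : R) (x : Abelian.Ext.{w'} T' (M p) q),
      a • x = x.comp (Abelian.Ext.mk₀ (μ p a)) (add_zero q))
    (h : ∀ p q : ℕ, (p : ℤ) + q = n → Module.Finite R (Abelian.Ext.{w'} T' (M p) q)) :
    Module.Finite R (HTρ T K ρ n) := by
  refine finite_HTρ T ρ n 0 hK (fun p hp hpn => ?_)
  lift p to ℕ using hp
  have := h p (n - p).toNat (by omega)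
  exact Module.Finite.equiv (grLin T T' eT K M e ρ μ hμ p (n - p).toNat n (by omega) (hsmul p _)).symm

include eT e hK hμ in
/-- The case where only one graded piece contributes. -/
theorem nonempty_linearEquiv_of_ext (p₀ q₀ : ℕ) [∀ p q : ℕ, Module R (Abelian.Ext.{w'} T' (M p) q)]
    (hsmul : ∀ (p q : ℕ) (a : R) (x : Abelian.Ext.{w'} T' (M p) q),
      a • x = x.comp (Abelian.Ext.mk₀ (μ p a)) (add_zero q))
    (h : ∀ p q : ℕ, (p : ℤ) + q = p₀ + q₀ → p ≠ p₀ → Subsingleton (Abelian.Ext.{w'} T' (M p) q))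
    (h₁ : ∀ p q : ℕ, (p : ℤ) + q = p₀ + q₀ - 1 → p < p₀ → Subsingleton (Abelian.Ext.{w'} T' (M p) q))
    (h₂ : ∀ p q : ℕ, (p : ℤ) + q = p₀ + q₀ + 1 → p₀ < p → Subsingleton (Abelian.Ext.{w'} T' (M p) q)) :
    Nonempty (HTρ T K ρ (p₀ + q₀) ≃ₗ[R] Abelian.Ext.{w'} T' (M p₀) q₀) := by
  have key : ∀ (n : ℤ) (p : ℤ) (hp : 0 ≤ p)
      (_ : ∀ p' q : ℕ, (p' : ℤ) + q = n → (p' : ℤ) = p → Subsingleton (Abelian.Ext.{w'} T' (M p') q)),
      Subsingleton (HT T ((HomologicalComplex.single A (ComplexShape.up ℤ) p).obj (K.X p)) n) := by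
    intro n p hp hh
    by_cases hpn : p ≤ n
    · lift p to ℕ using hp
      have := hh p (n - p).toNat (by omega) rfl
      exact (grEquiv T T' eT K M e p (n - p).toNat n (by omega)).toEquiv.subsingleton
    · exact subsingleton_HT_of_isGE T _ p n (by omega) (fun m hm =>
        HomologicalComplex.isZero_single_obj_X (ComplexShape.up ℤ) p (K.X p) m (by omega))
  obtain ⟨f⟩ := nonempty_linearEquiv T ρ (p₀ + q₀) 0 p₀ (by omega) hK
    (fun p hp hpp => key _ p hp (fun p' q hq hp' => h p' q hq (by omega)))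
    (fun p hp hpp => key _ p hp (fun p' q hq hp' => h₁ p' q hq (by omega)))
    (fun p hpp => key _ p (by omega) (fun p' q hq hp' => h₂ p' q hq (by omega)))
  exact ⟨f.trans (grLin T T' eT K M e ρ μ hμ p₀ q₀ _ rfl (hsmul p₀ q₀))⟩

end Lin

end main

end general

end K853.SheafHT
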