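import Groth.Agent.DeRhamSh.K853.HTExact

/-!
# The short exact sequences of the stupid filtration and devissage for hypercohomology

`0 → σ_{≥ i+1} K → σ_{≥ i} K → K^i[-i] → 0`, with the action of a ring `R` on `K`.
* `subsingleton_HT`: `H_T^n(K) = 0` if `H_T^n(K^p[-p]) = 0` for all `p` (`K` bounded below).
* `finite_HTρ`: finiteness over a noetherian ring.
* `bijective_...`: when only one graded piece contributes.
-/

set_option autoImplicit false

universe w v u u'

open CategoryTheory CategoryTheory.Limits CategoryTheory.Pretriangulated Opposite E1Deg KLinDR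

namespace K853.SigmaSES

open HTExact

section Gen

variable {C : Type u} [Category.{v} C] [Abelian C]

theorem shortExact_of_isIso_f (S : ShortComplex C) (h : IsIso S.f) (h₃ : IsZero S.X₃) : S.ShortExact where
  exact := by
    rw [S.exact_iff_epi (h₃.eq_of_tgt _ _)]
    infer_instance
  mono_f := inferInstance
  epi_g := ⟨fun _ _ _ => h₃.eq_of_src _ _⟩

theorem shortExact_of_isIso_g (S : ShortComplex C) (h : IsIso S.g) (h₁ : IsZero S.X₁) : S.ShortExact where
  exact := by
    rw [S.exact_iff_mono (h₁.eq_of_src _ _)]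
    infer_instance
  mono_f := ⟨fun _ _ _ => h₁.eq_of_tgt _ _⟩
  epi_g := inferInstance

end Gen

variable {A : Type u} [Category.{v} A] [Abelian A]

/-- The short complex `σ_{≥ i+1} K → σ_{≥ i} K → K^i[-i]`. -/
noncomputable def S (K : CochainComplex A ℤ) (i : ℤ) : ShortComplex (CochainComplex A ℤ) :=
  ShortComplex.mk (sigmaGEιSucc K i) (sigmaGEπ K i) (by
    apply HomologicalComplex.to_single_hom_ext
    have : IsZero ((sigmaGE K (i + 1)).X i) := K.isZero_stupidTrunc_X (emb (i + 1)) i (fun n hn => by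
      simp only [ComplexShape.embeddingUpIntGE_f] at hn
      omega)
    exact this.eq_of_src _ _)

theorem isZero_sigmaGE_X (K : CochainComplex A ℤ) {i m : ℤ} (h : m < i) : IsZero ((sigmaGE K i).X m) :=
  K.isZero_stupidTrunc_X (emb i) m (fun n hn => by
    simp only [ComplexShape.embeddingUpIntGE_f] at hn
    omega)

theorem shortExact_S (K : CochainComplex A ℤ) (i : ℤ) : (S K i).ShortExact := by
  apply HomologicalComplex.shortExact_of_degreewise_shortExact
  intro m
  by_cases hm : m = i
  · subst hm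
    apply shortExact_of_isIso_g
    · change IsIso ((sigmaGEπ K m).f m)
      rw [sigmaGEπ_f]
      infer_instance
    · exact isZero_sigmaGE_X K (by omega)
  · apply shortExact_of_isIso_f
    · change IsIso ((sigmaGEιSucc K i).f m)
      by_cases hmi : i + 1 ≤ m
      · have hn : (emb (i + 1)).f (m - (i + 1)).toNat = m := by
          simp only [ComplexShape.embeddingUpIntGE_f]
          omega
        rw [sigmaGEιSucc_f_eq K i hn]
        infer_instance
      · exact ⟨0, (isZero_sigmaGE_X K (by omega)).eq_of_src _ _, (isZero_sigmaGE_X K (by omega)).eq_of_src _ _⟩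
    · exact HomologicalComplex.isZero_single_obj_X (ComplexShape.up ℤ) i (K.X i) m hm

section Action

variable {R : Type u'} [Ring R] {K : CochainComplex A ℤ}

/-- Restriction along an embedding as a ring map on endomorphisms. -/
noncomputable def restrictEnd (K : CochainComplex A ℤ) (i : ℤ) : End K →+* End (K.restriction (emb i)) where
  toFun f := HomologicalComplex.restrictionMap f (emb i)
  map_one' := rfl
  map_mul' _ _ := rfl
  map_zero' := rfl
  map_add' _ _ := rfl

/-- The action on the stupid truncation. -/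
noncomputable def sigρ (ρ : R →+* End K) (i : ℤ) : R →+* End (sigmaGE K i) :=
  ((extendEnd (K.restriction (emb i)) (emb i)).comp (restrictEnd K i)).comp ρ

theorem sigρ_f (ρ : R →+* End K) (i : ℤ) (a : R) {m : ℤ} {n : ℕ} (h : (emb i).f n = m) :
    (sigρ ρ i a : sigmaGE K i ⟶ sigmaGE K i).f m =
      (K.stupidTruncXIso (emb i) h).hom ≫ (ρ a : K ⟶ K).f m ≫ (K.stupidTruncXIso (emb i) h).inv := by
  change (HomologicalComplex.stupidTruncMap (ρ a : K ⟶ K) (emb i)).f m = _
  rw [← HomologicalComplex.stupidTruncMap_stupidTruncXIso_hom_assoc]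
  simp

/-- The action on the graded pieces. -/
noncomputable def singρ (ρ : R →+* End K) (i : ℤ) :
    R →+* End ((HomologicalComplex.single A (ComplexShape.up ℤ) i).obj (K.X i)) where
  toFun a := (HomologicalComplex.single A (ComplexShape.up ℤ) i).map ((ρ a : K ⟶ K).f i)
  map_one' := by
    rw [map_one]
    exact (HomologicalComplex.single A (ComplexShape.up ℤ) i).map_id _
  map_mul' a b := by
    rw [map_mul, End.mul_def, HomologicalComplex.comp_f, Functor.map_comp]
    rfl
  map_zero' := by
    rw [map_zero]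
    exact (HomologicalComplex.single A (ComplexShape.up ℤ) i).map_zero _ _
  map_add' a b := by
    rw [map_add]
    exact (HomologicalComplex.single A (ComplexShape.up ℤ) i).map_add

theorem commutes_ι (ρ : R →+* End K) (i : ℤ) : Commutes (sigρ ρ i) ρ (sigmaGEι K i) := by
  intro a
  ext m
  rw [HomologicalComplex.comp_f, HomologicalComplex.comp_f]
  by_cases hm : i ≤ m
  · have hn : (emb i).f (m - i).toNat = m := by
      simp only [ComplexShape.embeddingUpIntGE_f]
      omega
    rw [sigmaGEι_f_eq K i hn, sigρ_f ρ i a hn]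
    simp
  · exact (isZero_sigmaGE_X K (by omega)).eq_of_src _ _

theorem commutes_ιSucc (ρ : R →+* End K) (i : ℤ) :
    Commutes (sigρ ρ (i + 1)) (sigρ ρ i) (sigmaGEιSucc K i) := by
  intro a
  ext m
  rw [HomologicalComplex.comp_f, HomologicalComplex.comp_f]
  by_cases hm : i + 1 ≤ m
  · have hn : (emb (i + 1)).f (m - (i + 1)).toNat = m := by
      simp only [ComplexShape.embeddingUpIntGE_f]
      omega
    rw [sigmaGEιSucc_f_eq K i hn, sigρ_f ρ (i + 1) a hn, sigρ_f ρ i a (emb_f_succ i hn)]
    simp
  · exact (isZero_sigmaGE_X K (by omega)).eq_of_src _ _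

theorem commutes_π (ρ : R →+* End K) (i : ℤ) : Commutes (sigρ ρ i) (singρ ρ i) (sigmaGEπ K i) := by
  intro a
  apply HomologicalComplex.to_single_hom_ext
  rw [HomologicalComplex.comp_f, HomologicalComplex.comp_f, sigmaGEπ_f, sigρ_f ρ i a (emb_f_zero i)]
  change _ = _ ≫ ((HomologicalComplex.single A (ComplexShape.up ℤ) i).map ((ρ a : K ⟶ K).f i)).f i
  rw [HomologicalComplex.single_map_f_self]
  simp

end Action

variable [HasDerivedCategory.{w} A]

/-- Vanishing of hypercohomology by devissage along the stupid filtration. -/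
theorem subsingleton_HT_sigma (T : A) (K : CochainComplex A ℤ) (n : ℤ) (i : ℤ)
    (h : ∀ p : ℤ, i ≤ p → p ≤ n →
      Subsingleton (HT T ((HomologicalComplex.single A (ComplexShape.up ℤ) p).obj (K.X p)) n)) :
    Subsingleton (HT T (sigmaGE K i) n) := by
  -- descending induction from `n + 1`
  have key : ∀ (k : ℕ) (i : ℤ), n < i + k → (∀ p : ℤ, i ≤ p → p ≤ n →
      Subsingleton (HT T ((HomologicalComplex.single A (ComplexShape.up ℤ) p).obj (K.X p)) n)) →
      Subsingleton (HT T (sigmaGE K i) n) := by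
    intro k
    induction k with
    | zero =>
      intro i hi _
      exact subsingleton_HT_of_isGE T _ i n (by simpa using hi) (fun m hm => isZero_sigmaGE_X K hm)
    | succ k ih =>
      intro i hi hp
      by_cases hin : n < i
      · exact subsingleton_HT_of_isGE T _ i n hin (fun m hm => isZero_sigmaGE_X K hm)
      · have h1 := ih (i + 1) (by push_cast at hi; omega) (fun p hp1 hp2 => hp p (by omega) hp2)
        have h2 := hp i le_rfl (by omega)
        refine ⟨fun x y => ?_⟩
        have hz : ∀ z : HT T (sigmaGE K i) n, z = 0 := by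
          intro z
          obtain ⟨y, hy⟩ := exact₂ (shortExact_S K i) T n z (@Subsingleton.elim _ h2 _ _)
          have hy0 : y = 0 := @Subsingleton.elim _ h1 _ _
          rw [← hy, hy0]
          exact map_zero (HTmap T (S K i).f n)
        rw [hz x, hz y]
  exact key (n - i + 1).toNat i (by omega) h

theorem subsingleton_HT (T : A) (K : CochainComplex A ℤ) (n : ℤ) (i : ℤ)
    (hK : ∀ m : ℤ, m < i → IsZero (K.X m))
    (h : ∀ p : ℤ, i ≤ p → p ≤ n →
      Subsingleton (HT T ((HomologicalComplex.single A (ComplexShape.up ℤ) p).obj (K.X p)) n)) :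
    Subsingleton (HT T K n) := by
  have h1 := subsingleton_HT_sigma T K n i h
  have h2 := isIso_sigmaGEι K i hK
  exact (HTequiv T (asIso (sigmaGEι K i)) n).symm.toEquiv.subsingleton

section Concentrated

variable {R : Type u'} [Ring R] {K : CochainComplex A ℤ}

theorem HTmap_ιSucc_bijective (T : A) (K : CochainComplex A ℤ) (n : ℤ) (p : ℤ)
    (h1 : Subsingleton (HT T ((HomologicalComplex.single A (ComplexShape.up ℤ) p).obj (K.X p)) n))
    (h2 : Subsingleton (HT T ((HomologicalComplex.single A (ComplexShape.up ℤ) p).obj (K.X p)) (n - 1))) :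
    Function.Bijective (HTmap T (sigmaGEιSucc K p) n) := by
  constructor
  · rw [injective_iff_map_eq_zero]
    intro x hx
    obtain ⟨y, hy⟩ := exact₁ (shortExact_S K p) T (n - 1) n (by ring) x hx
    have : y = 0 := @Subsingleton.elim _ h2 _ _
    rw [← hy, this]
    exact map_zero (δ (shortExact_S K p) T (n - 1) n (by ring))
  · intro x
    exact exact₂ (shortExact_S K p) T n x (@Subsingleton.elim _ h1 _ _)

theorem HTmap_π_bijective (T : A) (K : CochainComplex A ℤ) (n : ℤ) (p : ℤ)
    (h1 : Subsingleton (HT T (sigmaGE K (p + 1)) n))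
    (h2 : Subsingleton (HT T (sigmaGE K (p + 1)) (n + 1))) :
    Function.Bijective (HTmap T (sigmaGEπ K p) n) := by
  constructor
  · rw [injective_iff_map_eq_zero]
    intro x hx
    obtain ⟨y, hy⟩ := exact₂ (shortExact_S K p) T n x hx
    have : y = 0 := @Subsingleton.elim _ h1 _ _
    rw [← hy, this]
    exact map_zero (HTmap T (S K p).f n)
  · intro x
    exact exact₃ (shortExact_S K p) T n (n + 1) rfl x (@Subsingleton.elim _ h2 _ _)

/-- If only the `p₀`-th graded piece contributes to the cohomology around degree `n`, then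
`H_T^n(K) ≃ H_T^n(K^{p₀}[-p₀])`, linearly. -/
theorem nonempty_linearEquiv (T : A) (ρ : R →+* End K) (n : ℤ) (i p₀ : ℤ) (hi : i ≤ p₀)
    (hK : ∀ m : ℤ, m < i → IsZero (K.X m))
    (h : ∀ p : ℤ, i ≤ p → p ≠ p₀ →
      Subsingleton (HT T ((HomologicalComplex.single A (ComplexShape.up ℤ) p).obj (K.X p)) n))
    (h₁ : ∀ p : ℤ, i ≤ p → p < p₀ →
      Subsingleton (HT T ((HomologicalComplex.single A (ComplexShape.up ℤ) p).obj (K.X p)) (n - 1)))
    (h₂ : ∀ p : ℤ, p₀ < p →
      Subsingleton (HT T ((HomologicalComplex.single A (ComplexShape.up ℤ) p).obj (K.X p)) (n + 1))) :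
    Nonempty (HTρ T K ρ n ≃ₗ[R]
      HTρ T ((HomologicalComplex.single A (ComplexShape.up ℤ) p₀).obj (K.X p₀)) (singρ ρ p₀) n) := by
  have key : ∀ (k : ℕ) (j : ℤ), j = p₀ - k → i ≤ j →
      Nonempty (HTρ T (sigmaGE K j) (sigρ ρ j) n ≃ₗ[R]
        HTρ T ((HomologicalComplex.single A (ComplexShape.up ℤ) p₀).obj (K.X p₀)) (singρ ρ p₀) n) := by
    intro k
    induction k with
    | zero =>
      intro j hj _
      obtain rfl : j = p₀ := by simpa using hj
      refine ⟨LinearEquiv.ofBijective (HTρmap T (sigmaGEπ K j) (commutes_π ρ j) n) ?_⟩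
      refine HTmap_π_bijective T K n j ?_ ?_
      · exact subsingleton_HT_sigma T K n (j + 1) (fun p hp _ => h p (by omega) (by omega))
      · exact subsingleton_HT_sigma T K (n + 1) (j + 1) (fun p hp _ => h₂ p (by omega))
    | succ k ih =>
      intro j hj hij
      obtain ⟨e⟩ := ih (j + 1) (by push_cast at hj; omega) (by omega)
      have hb : Function.Bijective (HTρmap T (sigmaGEιSucc K j) (commutes_ιSucc ρ j) n) :=
        HTmap_ιSucc_bijective T K n j (h j hij (by push_cast at hj; omega))
          (h₁ j hij (by push_cast at hj; omega))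
      exact ⟨(LinearEquiv.ofBijective _ hb).symm.trans e⟩
  obtain ⟨e⟩ := key (p₀ - i).toNat i (by omega) le_rfl
  have h2 := isIso_sigmaGEι K i hK
  have hb : Function.Bijective (HTρmap T (sigmaGEι K i) (commutes_ι ρ i) n) :=
    (HTequiv T (asIso (sigmaGEι K i)) n).bijective
  exact ⟨(LinearEquiv.ofBijective _ hb).symm.trans e⟩

end Concentrated

section Finite

variable {R : Type u'} [CommRing R] [IsNoetherianRing R] {K : CochainComplex A ℤ}

/-- A middle term of an exact sequence of modules with finite ends is finite. -/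
theorem finite_of_exact {M₁ M₂ M₃ : Type*} [AddCommGroup M₁] [AddCommGroup M₂] [AddCommGroup M₃]
    [Module R M₁] [Module R M₂] [Module R M₃] (f : M₁ →ₗ[R] M₂) (g : M₂ →ₗ[R] M₃)
    (hfg : ∀ x, g x = 0 → ∃ y, f y = x) [Module.Finite R M₁] [Module.Finite R M₃] : Module.Finite R M₂ := by
  have h1 : (Submodule.map g ⊤).FG := IsNoetherian.noetherian _
  have h2 : LinearMap.ker g = Submodule.map f (Submodule.comap (g ∘ₗ f) ⊥) := by
    ext x
    constructor
    · intro hx
      obtain ⟨y, rfl⟩ := hfg x hx
      exact ⟨y, hx, rfl⟩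
    · rintro ⟨y, hy, rfl⟩
      exact hy
  have h3 : (⊤ ⊓ LinearMap.ker g : Submodule R M₂).FG := by
    rw [top_inf_eq, h2]
    exact Submodule.FG.map _ (IsNoetherian.noetherian _)
  exact ⟨Submodule.fg_of_fg_map_of_fg_inf_ker g h1 h3⟩

theorem finite_HTρ_of_shortExact {S : ShortComplex (CochainComplex A ℤ)} (hS : S.ShortExact) (T : A)
    {ρ₁ : R →+* End S.X₁} {ρ₂ : R →+* End S.X₂} {ρ₃ : R →+* End S.X₃}
    (h₁₂ : Commutes ρ₁ ρ₂ S.f) (h₂₃ : Commutes ρ₂ ρ₃ S.g) (n : ℤ)
    (h₁ : Module.Finite R (HTρ T S.X₁ ρ₁ n)) (h₃ : Module.Finite R (HTρ T S.X₃ ρ₃ n)) :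
    Module.Finite R (HTρ T S.X₂ ρ₂ n) :=
  finite_of_exact (HTρmap T S.f h₁₂ n) (HTρmap T S.g h₂₃ n) (fun x hx => exact₂ hS T n x hx)

theorem finite_HTρ_sigma (T : A) (ρ : R →+* End K) (n : ℤ) (i : ℤ)
    (h : ∀ p : ℤ, i ≤ p → p ≤ n →
      Module.Finite R (HTρ T ((HomologicalComplex.single A (ComplexShape.up ℤ) p).obj (K.X p)) (singρ ρ p) n)) :
    Module.Finite R (HTρ T (sigmaGE K i) (sigρ ρ i) n) := by
  have key : ∀ (k : ℕ) (i : ℤ), n < i + k → (∀ p : ℤ, i ≤ p → p ≤ n →
      Module.Finite R (HTρ T ((HomologicalComplex.single A (ComplexShape.up ℤ) p).obj (K.X p)) (singρ ρ p) n)) →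
      Module.Finite R (HTρ T (sigmaGE K i) (sigρ ρ i) n) := by
    intro k
    induction k with
    | zero =>
      intro i hi _
      have : Subsingleton (HTρ T (sigmaGE K i) (sigρ ρ i) n) :=
        subsingleton_HT_of_isGE T _ i n (by simpa using hi) (fun m hm => isZero_sigmaGE_X K hm)
      infer_instance
    | succ k ih =>
      intro i hi hp
      by_cases hin : n < i
      · have : Subsingleton (HTρ T (sigmaGE K i) (sigρ ρ i) n) :=
          subsingleton_HT_of_isGE T _ i n hin (fun m hm => isZero_sigmaGE_X K hm)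
        infer_instance
      · exact finite_HTρ_of_shortExact (shortExact_S K i) T (commutes_ιSucc ρ i) (commutes_π ρ i) n
          (ih (i + 1) (by push_cast at hi; omega) (fun p hp1 hp2 => hp p (by omega) hp2)) (hp i le_rfl (by omega))
  exact key (n - i + 1).toNat i (by omega) h

theorem finite_HTρ (T : A) (ρ : R →+* End K) (n : ℤ) (i : ℤ)
    (hK : ∀ m : ℤ, m < i → IsZero (K.X m))
    (h : ∀ p : ℤ, i ≤ p → p ≤ n →
      Module.Finite R (HTρ T ((HomologicalComplex.single A (ComplexShape.up ℤ) p).obj (K.X p)) (singρ ρ p) n)) :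
    Module.Finite R (HTρ T K ρ n) := by
  have h1 := finite_HTρ_sigma T ρ n i h
  have h2 := isIso_sigmaGEι K i hK
  refine Module.Finite.of_surjective (HTρmap T (sigmaGEι K i) (commutes_ι ρ i) n) ?_
  exact (HTequiv T (asIso (sigmaGEι K i)) n).surjective

end Finite

end K853.SigmaSES
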