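import Groth.Agent.DeRhamSh.K853.HomAcyc
import Groth.Agent.CohtopB.KInjSect

/-!
# Hypercohomology of a complex of abelian sheaves over an object where the terms are acyclic

`K` a complex of abelian sheaves on a site, in degrees `≥ 0`, with `K^p ≅ F p`; `U` an object with
`Ext^q(ℤ[U], F p) = 0` for `q > 0`.  `nonempty_linearEquiv`: the hypercohomology over `U` is the cohomology of the
complex of sections over `U`, linearly over a ring acting on the complex, through any model `G` of the complex of sections.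
-/

set_option autoImplicit false

universe w u

open CategoryTheory CategoryTheory.Limits Opposite E1Deg KLinDR

namespace K853.SiteModel

open Groth.Agent.CohtopB.FreeSheafHom Groth.Agent.CohtopB.KInjSect Groth.Agent.Htor.H253.HomCone

variable {C : Type u} [SmallCategory C] {J : GrothendieckTopology C}
  (K : CochainComplex (Sheaf J AddCommGrpCat.{u}) ℕ) (F : ℕ → Sheaf J AddCommGrpCat.{u})
  (iso : ∀ p, K.X p ≅ F p)

/-- The differential on sections. -/
noncomputable def dS (U : C) (p : ℕ) : (F p).obj.obj (op U) →+ (F (p + 1)).obj.obj (op U) :=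
  (((iso p).inv ≫ K.d p (p + 1) ≫ (iso (p + 1)).hom).hom.app (op U)).hom

/-- The `p`-th term of the extended complex. -/
noncomputable def isoZ (p : ℕ) : (K.extend ComplexShape.embeddingUpNat).X (p : ℤ) ≅ F p :=
  K.extendXIso ComplexShape.embeddingUpNat (ComplexShape.embeddingUpNat_f p) ≪≫ iso p

theorem d_isoZ (p : ℕ) : (K.extend ComplexShape.embeddingUpNat).d (p : ℤ) ((p + 1 : ℕ) : ℤ) ≫ (isoZ K F iso (p + 1)).hom =
    (isoZ K F iso p).hom ≫ (iso p).inv ≫ K.d p (p + 1) ≫ (iso (p + 1)).hom := by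
  rw [K.extend_d_eq ComplexShape.embeddingUpNat (ComplexShape.embeddingUpNat_f p)
    (ComplexShape.embeddingUpNat_f (p + 1))]
  simp [isoZ]

/-- Morphisms from `ℤ[U]` to the terms are sections. -/
noncomputable def eS (U : C) (p : ℕ) :
    (CohCx.freeSheaf J U ⟶ (K.extend ComplexShape.embeddingUpNat).X (p : ℤ)) ≃+ (F p).obj.obj (op U) :=
  ({ toFun := fun x => x ≫ (isoZ K F iso p).hom
     invFun := fun x => x ≫ (isoZ K F iso p).inv
     left_inv := fun x => by simp
     right_inv := fun x => by simp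
     map_add' := fun x y => Preadditive.add_comp _ _ _ _ _ _ } :
      (CohCx.freeSheaf J U ⟶ (K.extend ComplexShape.embeddingUpNat).X (p : ℤ)) ≃+
        (CohCx.freeSheaf J U ⟶ F p)).trans (homEquivSections U (F p))

theorem eS_apply (U : C) (p : ℕ) (x : CohCx.freeSheaf J U ⟶ (K.extend ComplexShape.embeddingUpNat).X (p : ℤ)) :
    eS K F iso U p x = homEquivSections U (F p) (x ≫ (isoZ K F iso p).hom) := rfl

theorem homEquivSections_comp {U : C} {F G : Sheaf J AddCommGrpCat.{u}} (x : CohCx.freeSheaf J U ⟶ F) (g : F ⟶ G) :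
    homEquivSections U G (x ≫ g) = (g.hom.app (op U)).hom (homEquivSections U F x) := rfl

theorem eS_d (U : C) (p : ℕ) (x : CohCx.freeSheaf J U ⟶ (K.extend ComplexShape.embeddingUpNat).X (p : ℤ)) :
    eS K F iso U (p + 1) (x ≫ (K.extend ComplexShape.embeddingUpNat).d (p : ℤ) ((p + 1 : ℕ) : ℤ)) =
      dS K F iso U p (eS K F iso U p x) := by
  rw [eS_apply, eS_apply, Category.assoc, d_isoZ, ← Category.assoc, homEquivSections_comp]
  rfl

theorem eS_comp (U : C) (p : ℕ) (x : CohCx.freeSheaf J U ⟶ (K.extend ComplexShape.embeddingUpNat).X (p : ℤ))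
    (φ : (K.extend ComplexShape.embeddingUpNat).X (p : ℤ) ⟶ (K.extend ComplexShape.embeddingUpNat).X (p : ℤ))
    (μ : F p ⟶ F p) (h : φ = (isoZ K F iso p).hom ≫ μ ≫ (isoZ K F iso p).inv) :
    eS K F iso U p (x ≫ φ) = (μ.hom.app (op U)).hom (eS K F iso U p x) := by
  rw [eS_apply, eS_apply, h]
  simp only [Category.assoc, Iso.inv_hom_id, Category.comp_id]
  rw [← Category.assoc, homEquivSections_comp]

theorem extAcyc_of_iso {A : Type*} [Category A] [Abelian A] [HasExt.{w} A] {T M N : A} (e : M ≅ N)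
    (h : ExtAcyc T N) : ExtAcyc T M := fun q x => by
  have h1 := h q (x.comp (Abelian.Ext.mk₀ e.hom) (add_zero _))
  have h2 : (x.comp (Abelian.Ext.mk₀ e.hom) (add_zero _)).comp (Abelian.Ext.mk₀ e.inv) (add_zero _) = x := by
    rw [Abelian.Ext.comp_assoc_of_second_deg_zero, Abelian.Ext.mk₀_comp_mk₀, e.hom_inv_id,
      Abelian.Ext.comp_mk₀_id]
  rw [← h2, h1, Abelian.Ext.zero_comp]

variable [HasDerivedCategory.{w} (Sheaf J AddCommGrpCat.{u})]
  {R : Type*} [Ring R] (ρ : R →+* End (K.extend ComplexShape.embeddingUpNat))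
  (μ : ∀ p : ℕ, R → (F p ⟶ F p))
  (hρ : ∀ (p : ℕ) (a : R), (ρ a : K.extend ComplexShape.embeddingUpNat ⟶ _).f (p : ℤ) =
    (isoZ K F iso p).hom ≫ μ p a ≫ (isoZ K F iso p).inv)
  {G : ℕ → Type*} [∀ p, AddCommGroup (G p)] [∀ p, Module R (G p)]
  (d : ∀ p, G p →ₗ[R] G (p + 1)) (U : C)
  (e : ∀ p : ℕ, (F p).obj.obj (op U) ≃+ G p)
  (he : ∀ (p : ℕ) (x : (F p).obj.obj (op U)), e (p + 1) (dS K F iso U p x) = d p (e p x))
  (hμ : ∀ (a : R) (p : ℕ) (x : (F p).obj.obj (op U)), e p (((μ p a).hom.app (op U)).hom x) = a • e p x)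
  (hac : ∀ p : ℕ, ∀ (q : ℕ) (x : Abelian.Ext (CohCx.freeSheaf J U) (F p) (q + 1)), x = 0)

include hρ he hμ hac in
theorem nonempty_linearEquiv (p : ℕ) :
    Nonempty (SeqCoh.H d p ≃ₗ[R] HTρ (CohCx.freeSheaf J U) (K.extend ComplexShape.embeddingUpNat) ρ (p : ℤ)) := by
  have hz : ∀ i : ℤ, i < 0 → IsZero ((K.extend ComplexShape.embeddingUpNat).X i) := fun i hi =>
    K.isZero_extend_X ComplexShape.embeddingUpNat i (fun j hj => by
      simp only [ComplexShape.embeddingUpNat_f] at hj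
      omega)
  refine HomAcyc.nonempty_linearEquiv (T := CohCx.freeSheaf J U) (K := K.extend ComplexShape.embeddingUpNat) ρ d
    (fun p => (eS K F iso U p).trans (e p)) (fun p x => ?_) (fun a p x => ?_) hz (fun i => ?_) p
  · rw [AddEquiv.trans_apply, eS_d, he]
    rfl
  · rw [AddEquiv.trans_apply, eS_comp K F iso U p x _ (μ p a) (hρ p a), hμ]
    rfl
  · by_cases hi : i < 0
    · exact extAcyc_of_isZero (hz i hi)
    · obtain ⟨j, rfl⟩ := Int.eq_ofNat_of_zero_le (not_lt.mp hi)
      exact extAcyc_of_iso (isoZ K F iso j) (hac j)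

end K853.SiteModel
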