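import Groth.Agent.DeRhamSh.K853.TaylorGeo

/-!
# The Taylor expansion of the class of the diagonal

If the class of the diagonal of `V` in `X × V` comes from `X`, the classes `[w / z^(k+1)]` at a section vanish
for `k ≠ 0`.
-/

set_option autoImplicit false
universe u

open CategoryTheory CategoryTheory.Limits AlgebraicGeometry Opposite TopologicalSpace
open scoped TensorProduct

namespace K853.Taylor

open Groth.Agent K644.Kap K853.HcSch K853.Trunc K644.Fr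

variable {A : Type u} [CommRing A] {X : Scheme.{u}} {f : X ⟶ Spec (CommRingCat.of A)} {n m : ℕ}
  {s : Spec (CommRingCat.of A) ⟶ X} (hs : s ≫ f = 𝟙 _) {V : X.Opens} (hV : IsAffineOpen V)
  (e : (⊤ : (Spec (CommRingCat.of A)).Opens) ≤ s ⁻¹ᵁ V)
  {T : Scheme.{u}} {j : T ⟶ X} {q : T ⟶ Spec (CommRingCat.of (TP n m A))}
  (HT : IsPullback j q f (Spec.map (CommRingCat.ofHom (algebraMap A (TP n m A)))))
  {XB : Scheme.{u}} {jB : XB ⟶ X} {qB : XB ⟶ Spec (CommRingCat.of Γ(X, V))}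
  (HB : IsPullback jB qB f (Spec.map (CommRingCat.ofHom (K184.Const.str f V))))
  {γ : Spec (CommRingCat.of Γ(X, V)) ⟶ XB} (hγ1 : γ ≫ jB = hV.fromSpec) (hγ2 : γ ≫ qB = 𝟙 _)
  {h : Γ(X, V) →+* TP n m A} (hr : (retr (A := A) n m).toRingHom.comp h = ev s V e)
  {g : T ⟶ XB} (hg1 : g ≫ jB = j) (hg2 : g ≫ qB = q ≫ Spec.map (CommRingCat.ofHom h))
  {x : Fin n → Γ(X, V)} (hx : ∀ i, h (x i) = algebraMap A _ (ev s V e (x i)) + K853.Trunc.s n m A i)
  {OB NB : XB.Opens} (hOB : OB ≤ jB ⁻¹ᵁ V) {tB : Fin n → Γ(XB, OB)}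
  (htB : ∀ i, tB i = jB.appLE V OB hOB (x i) - K184.Const.str qB OB (x i))
  (hB : Valid OB NB tB) (hNB : ∀ p, p ∉ NB ↔ p ∈ Set.range γ)
  {W N : X.Opens} (hW : W ≤ V) {z : Fin n → Γ(X, W)}
  (hz : ∀ i, z i = rr hW (x i) - K184.Const.str f W (ev s V e (x i)))
  (hZ : Valid W N z) (hN : ∀ p, p ∉ N ↔ p ∈ Set.range s)
  (F : X.Modules) (w : Γ(F, V)) (v : Fin n → Γ(X, hZ.dat.Q)) (hv : ∀ i, rr hZ.dat.Q_le (z i) * v i = 1)
  (ν : Coh.HH X F n)
  (hν : fv hB ((Scheme.Modules.pullback jB).obj F) (VarietyB.PullSec.sec jB F hOB w) = CohPull.pullMod jB F n ν)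

include hs e HT HB hγ1 hγ2 hr hg1 hg2 hx htB hNB hz hN hv hν in
/-- The expansion of the pull-back to `X_TP`. -/
theorem sum_eq : ∑ k : Fin n → Fin (m + 1), Coh.toGlobal q (∏ i, K853.Trunc.s n m A i ^ (k i : ℕ)) •
    CohPull.pullMod j F n (hZ.dat.cls F ((∏ i, v i ^ ((k i : ℕ) + 1)) • mr F (hZ.dat.Q_le.trans hW) w)) =
    CohPull.pullMod j F n ν := by
  have hT := valid_tt hs hV e HT HB hγ1 hγ2 hr hg1 hg2 hx hOB htB hB hNB hW hz hZ hN
  have hPB := pbB hV e hγ1 hγ2 hr hg1 hg2 hB hNB hN hT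
  have hPZ := pbZ e HT hg1 hg2 hx hOB htB hW hz hZ hT
  let ω : Γ((Scheme.Modules.pullback jB).obj F, OB) := VarietyB.PullSec.sec jB F hOB w
  let μ : Γ((Scheme.Modules.pullback jB).obj F, hB.dat.Q) := hB.dat.dv _ ω
  let m' : Γ((Scheme.Modules.pullback j).obj F, hT.dat.Q) := tsec g hg1 F hPB.le μ
  have h1 : cls ((Scheme.Modules.pullback j).obj F) hT.dat.cv n hT.dat.l_length m' = CohPull.pullMod j F n ν := by
    have h2 := pm_psi_cls g hg1 F hPB n hB.dat.l_length hT.dat.l_length μ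
    have h3 := K184.BcPm.pm_psi_pullMod g hg1 F n ν
    rw [← hν] at h3
    exact h2.symm.trans h3
  refine Eq.trans ?_ h1
  symm
  have hD : hT.dat.Q ≤ OO j g W OB := hT.dat.Q_le
  have hQV : hT.dat.Q ≤ j ⁻¹ᵁ V := (hD.trans (OO_le' j g W OB)).trans (j.preimage_mono hW)
  refine expand j F hPZ hZ.dat.l_length hT.dat.l_length z v hv (mr F (hZ.dat.Q_le.trans hW) w) (Coh.toGlobal q)
    (K853.Trunc.s n m A) (s_pow n m) m' ?_
  have h4 : ∀ i, g.appLE OB hT.dat.Q (hD.trans (OO_le j g W OB)) (tB i) =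
      j.appLE W hT.dat.Q (hD.trans (OO_le' j g W OB)) (z i) -
        (show Γ(T, hT.dat.Q) from Coh.resTop T (op hT.dat.Q) (Coh.toGlobal q (K853.Trunc.s n m A i))) := by
    intro i
    rw [resTop_toGlobal]
    exact pull_den e HT.w hg1 hg2 (x i) i (hx i) hOB (tB i) (htB i) hW (z i) (hz i) _ _
  have h5 : (∏ i, (j.appLE W hT.dat.Q (hD.trans (OO_le' j g W OB)) (z i) -
        (show Γ(T, hT.dat.Q) from Coh.resTop T (op hT.dat.Q) (Coh.toGlobal q (K853.Trunc.s n m A i))))) =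
      g.appLE hB.dat.Q hT.dat.Q hPB.le (rr hB.dat.Q_le (∏ i, tB i)) := by
    have h6 : g.appLE hB.dat.Q hT.dat.Q hPB.le (rr hB.dat.Q_le (∏ i, tB i)) =
        g.appLE OB hT.dat.Q (hD.trans (OO_le j g W OB)) (∏ i, tB i) :=
      ConcreteCategory.congr_hom (Scheme.Hom.map_appLE g hPB.le (homOfLE hB.dat.Q_le).op) _
    rw [h6, map_prod]
    exact Finset.prod_congr rfl fun i _ => (h4 i).symm
  have h7 : (rr hB.dat.Q_le (∏ i, tB i)) • μ = mr _ hB.dat.Q_le ω := hB.dat.smul_dv _ ω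
  have h8 : tsec g hg1 F hPB.le (mr _ hB.dat.Q_le ω) =
      g.appLE hB.dat.Q hT.dat.Q hPB.le (rr hB.dat.Q_le (∏ i, tB i)) • m' :=
    (congrArg (tsec g hg1 F hPB.le) h7).symm.trans (tsec_smul g hg1 F hPB.le (rr hB.dat.Q_le (∏ i, tB i)) μ)
  have h9 : mr _ hB.dat.Q_le ω = VarietyB.PullSec.sec jB F (hB.dat.Q_le.trans hOB) w := by
    refine (Fga.SecComp.res_sec jB F hOB (hB.dat.Q_le.trans hOB) (le_refl V) hB.dat.Q_le w).trans ?_
    exact congrArg _ (mr_refl F w)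
  have h9' : tsec g hg1 F hPB.le (mr _ hB.dat.Q_le ω) = VarietyB.PullSec.sec j F hQV w :=
    (congrArg (tsec g hg1 F hPB.le) h9).trans (tsec_sec g hg1 F hPB.le (hB.dat.Q_le.trans hOB) hQV w)
  have h10 : VarietyB.PullSec.sec j F hPZ.le (mr F (hZ.dat.Q_le.trans hW) w) = VarietyB.PullSec.sec j F hQV w := by
    refine (Fga.SecComp.res_sec j F hQV hPZ.le (hZ.dat.Q_le.trans hW) (le_refl hT.dat.Q) w).symm.trans ?_
    exact mr_refl _ _
  refine Eq.trans ?_ ((h8.symm.trans h9').trans h10.symm)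
  exact congrArg (fun t : Γ(T, hT.dat.Q) => t • m') h5

end K853.Taylor

namespace K853.Taylor

open Groth.Agent K644.Kap K853.HcSch K853.Trunc K644.Fr

theorem extr {A : Type u} [CommRing A] {X : Scheme.{u}} (f : X ⟶ Spec (CommRingCat.of A)) [IsProper f]
    [LocallyOfFinitePresentation f] (F : X.Modules) (hF : CohB1.IsFP F) (hfl : FlatMod.IsFlatOver f F) {n m : ℕ}
    {T : Scheme.{u}} {j : T ⟶ X} {q : T ⟶ Spec (CommRingCat.of (TP n m A))}
    (HT : IsPullback j q f (Spec.map (CommRingCat.ofHom (algebraMap A (TP n m A)))))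
    (y : (Fin n → ℕ) → Coh.HH X F n) (ν : Coh.HH X F n)
    (h : ∑ k : Fin n → Fin (m + 1), Coh.toGlobal q (∏ i, K853.Trunc.s n m A i ^ (k i : ℕ)) •
      CohPull.pullMod j F n (y fun i => (k i : ℕ)) = CohPull.pullMod j F n ν)
    (k : Fin n → ℕ) (hm : ∀ i, k i ≤ m) (hk : k ≠ 0) : y k = 0 := by
  let _ : X.Over (Spec (CommRingCat.of A)) := ⟨f⟩
  let _ : T.Over (Spec (CommRingCat.of (TP n m A))) := ⟨q⟩
  have : IsProper (X ↘ Spec (CommRingCat.of A)) := ‹IsProper f›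
  have : LocallyOfFinitePresentation (X ↘ Spec (CommRingCat.of A)) := ‹LocallyOfFinitePresentation f›
  obtain ⟨E, hE⟩ := K184.BcFlat.exists_equiv (A := A) X F hF hfl n (B := TP n m A) (X' := T) j
    (show IsPullback j (T ↘ Spec (CommRingCat.of (TP n m A))) (X ↘ Spec (CommRingCat.of A))
      (Spec.map (CommRingCat.ofHom (algebraMap A (TP n m A)))) from HT)
  exact extract E (CohPull.pullMod j F n) hE (fun c : Fin n → Fin (m + 1) => y fun i => (c i : ℕ)) ν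
    h (fun i => ⟨k i, Nat.lt_succ_of_le (hm i)⟩) (by
      by_contra hcon
      push Not at hcon
      exact hk (funext hcon))

/-- **The Taylor coefficients vanish.** -/
theorem main {A : Type u} [CommRing A] {X : Scheme.{u}} (f : X ⟶ Spec (CommRingCat.of A)) [IsProper f]
    [LocallyOfFinitePresentation f] (F : X.Modules) (hF : CohB1.IsFP F) (hfl : FlatMod.IsFlatOver f F) {n : ℕ}
    (s : Spec (CommRingCat.of A) ⟶ X) (hs : s ≫ f = 𝟙 _) (V : X.Opens) (hV : IsAffineOpen V)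
    (e : (⊤ : (Spec (CommRingCat.of A)).Opens) ≤ s ⁻¹ᵁ V) (x : Fin n → Γ(X, V))
    (hx : K853.EtCoord.IsCoord f V x)
    {XB : Scheme.{u}} {jB : XB ⟶ X} {qB : XB ⟶ Spec (CommRingCat.of Γ(X, V))}
    (HB : IsPullback jB qB f (Spec.map (CommRingCat.ofHom (K184.Const.str f V))))
    (γ : Spec (CommRingCat.of Γ(X, V)) ⟶ XB) (hγ1 : γ ≫ jB = hV.fromSpec) (hγ2 : γ ≫ qB = 𝟙 _)
    {OB NB : XB.Opens} (hOB : OB ≤ jB ⁻¹ᵁ V) (tB : Fin n → Γ(XB, OB))
    (htB : ∀ i, tB i = jB.appLE V OB hOB (x i) - K184.Const.str qB OB (x i))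
    (hB : Valid OB NB tB) (hNB : ∀ p, p ∉ NB ↔ p ∈ Set.range γ)
    {W N : X.Opens} (hW : W ≤ V) (z : Fin n → Γ(X, W))
    (hz : ∀ i, z i = rr hW (x i) - K184.Const.str f W (ev s V e (x i)))
    (hZ : Valid W N z) (hN : ∀ p, p ∉ N ↔ p ∈ Set.range s)
    (w : Γ(F, V)) (v : Fin n → Γ(X, hZ.dat.Q)) (hv : ∀ i, rr hZ.dat.Q_le (z i) * v i = 1)
    (ν : Coh.HH X F n)
    (hν : fv hB ((Scheme.Modules.pullback jB).obj F) (VarietyB.PullSec.sec jB F hOB w) = CohPull.pullMod jB F n ν)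
    (k : Fin n → ℕ) (hk : k ≠ 0) :
    hZ.dat.cls F ((∏ i, v i ^ (k i + 1)) • mr F (hZ.dat.Q_le.trans hW) w) = 0 := by
  let m : ℕ := ∑ i, k i
  have hm : ∀ i, k i ≤ m := fun i => Finset.single_le_sum (fun _ _ => Nat.zero_le _) (Finset.mem_univ i)
  let _ : Algebra A Γ(X, V) := K184.Const.alg f V
  let σ : Γ(X, V) →ₐ[A] A := { ev s V e with commutes' := fun a => ev_str s V e f hs a }
  obtain ⟨h, hh1, hh2⟩ := exists_lift n m x hx σ
  let φ : A →+* TP n m A := algebraMap A (TP n m A)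
  let T : Scheme.{u} := pullback f (Spec.map (CommRingCat.ofHom φ))
  let j : T ⟶ X := pullback.fst f (Spec.map (CommRingCat.ofHom φ))
  let q : T ⟶ Spec (CommRingCat.of (TP n m A)) := pullback.snd f (Spec.map (CommRingCat.ofHom φ))
  have HT : IsPullback j q f (Spec.map (CommRingCat.ofHom φ)) := IsPullback.of_hasPullback _ _
  have hφ : h.toRingHom.comp (K184.Const.str f V) = φ := RingHom.ext fun a => h.commutes a
  have hr : (retr (A := A) n m).toRingHom.comp h.toRingHom = ev s V e :=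
    RingHom.ext fun a => DFunLike.congr_fun hh2 a
  let g : T ⟶ XB := HB.lift j (q ≫ Spec.map (CommRingCat.ofHom h.toRingHom)) (by
    rw [HT.w, Category.assoc, ← Spec.map_comp, ← CommRingCat.ofHom_comp, hφ])
  have hg1 : g ≫ jB = j := HB.lift_fst _ _ _
  have hg2 : g ≫ qB = q ≫ Spec.map (CommRingCat.ofHom h.toRingHom) := HB.lift_snd _ _ _
  have hsum := sum_eq hs hV e HT HB hγ1 hγ2 hr hg1 hg2 hh1 hOB htB hB hNB hW hz hZ hN F w v hv ν hν
  exact extr f F hF hfl HT (fun k => hZ.dat.cls F ((∏ i, v i ^ (k i + 1)) • mr F (hZ.dat.Q_le.trans hW) w)) ν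
    hsum k hm hk

end K853.Taylor
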