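import Mathlib.RingTheory.MvPolynomial.Ideal
import Mathlib.RingTheory.Etale.Basic
import Mathlib.RingTheory.RingHom.Etale
import Mathlib.RingTheory.Nilpotent.Lemmas
import Mathlib.RingTheory.Noetherian.Nilpotent
import Mathlib.RingTheory.RingHom.Smooth
import Mathlib.LinearAlgebra.Basis.Basic
import Mathlib.RingTheory.Finiteness.Basic

/-!
# Truncated polynomial rings and étale lifts

`TP n m A = A[s_1, …, s_n] / (s_i^(m+1))`:
* `coeff c : TP n m A →ₗ[A] A`, `basis` (monomials `∏ s_i^(c_i)`, `c : Fin n → Fin (m + 1)`);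
* `retr : TP n m A →ₐ[A] A` with nilpotent kernel;
* `exists_lift`: for `B` with étale coordinates `x` over `A` and `σ : B →ₐ[A] A` there is `h : B →ₐ[A] TP n m A`
  lifting `σ` with `h (x i) = σ (x i) + s_i`.
-/

set_option autoImplicit false

universe u v

namespace K853.Trunc

open MvPolynomial

variable (n m : ℕ) (A : Type u) [CommRing A]

/-- the ideal `(s_1^(m+1), …, s_n^(m+1))` -/
noncomputable def truncIdeal : Ideal (MvPolynomial (Fin n) A) := Ideal.span (Set.range fun i => X i ^ (m + 1))

/-- the truncated polynomial ring -/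
abbrev TP : Type u := MvPolynomial (Fin n) A ⧸ truncIdeal n m A

variable {A}

theorem mem_truncIdeal {p : MvPolynomial (Fin n) A} :
    p ∈ truncIdeal n m A ↔ ∀ d ∈ p.support, ∃ i, m + 1 ≤ d i := by
  have h1 : (Set.range fun i : Fin n => (X i ^ (m + 1) : MvPolynomial (Fin n) A)) =
      (fun s => monomial s (1 : A)) '' Set.range fun i : Fin n => Finsupp.single i (m + 1) := by
    rw [← Set.range_comp]
    congr 1
    funext i
    simp [X_pow_eq_monomial]
  rw [truncIdeal, h1, mem_ideal_span_monomial_image]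
  refine forall_congr' fun d => forall_congr' fun _ => ?_
  constructor
  · rintro ⟨_, ⟨i, rfl⟩, h⟩
    refine ⟨i, ?_⟩
    have := h i
    simpa using this
  · rintro ⟨i, h⟩
    exact ⟨_, ⟨i, rfl⟩, Finsupp.single_le_iff.2 h⟩

variable (A) in
/-- the variables -/
noncomputable def s (i : Fin n) : TP n m A := Ideal.Quotient.mk _ (X i)

theorem s_pow (i : Fin n) : s n m A i ^ (m + 1) = 0 := by
  rw [s, ← map_pow, Ideal.Quotient.eq_zero_iff_mem]
  exact Ideal.subset_span ⟨i, rfl⟩

/-- exponents -/
noncomputable def ex (c : Fin n → Fin (m + 1)) : Fin n →₀ ℕ := Finsupp.equivFunOnFinite.symm fun i => (c i : ℕ)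

theorem ex_apply (c : Fin n → Fin (m + 1)) (i : Fin n) : ex n m c i = c i := rfl

theorem ex_injective : Function.Injective (ex n m) := fun c c' h => by
  funext i
  exact Fin.ext (DFunLike.congr_fun h i)

theorem mem_ex {d : Fin n →₀ ℕ} (h : ∀ i, d i ≤ m) : ∃ c, ex n m c = d :=
  ⟨fun i => ⟨d i, Nat.lt_succ_of_le (h i)⟩, by ext i; rfl⟩

/-- the coefficients, as linear forms on polynomials -/
noncomputable def coeff' (c : Fin n → Fin (m + 1)) : MvPolynomial (Fin n) A →ₗ[A] A := lcoeff A (ex n m c)

theorem coeff'_apply (c : Fin n → Fin (m + 1)) (p : MvPolynomial (Fin n) A) :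
    coeff' n m c p = MvPolynomial.coeff (ex n m c) p := rfl

theorem coeff'_eq_zero (c : Fin n → Fin (m + 1)) (p : MvPolynomial (Fin n) A) (hp : p ∈ truncIdeal n m A) :
    coeff' n m c p = 0 := by
  rw [coeff'_apply]
  by_contra h
  obtain ⟨i, hi⟩ := (mem_truncIdeal n m).1 hp _ (mem_support_iff.2 h)
  rw [ex_apply] at hi
  exact absurd (c i).isLt (by omega)

/-- the coefficients -/
noncomputable def coeff (c : Fin n → Fin (m + 1)) : TP n m A →ₗ[A] A where
  toFun := Quotient.lift (coeff' n m c) fun a b h => by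
    have h1 : a - b ∈ truncIdeal n m A := by
      rw [← Submodule.quotientRel_def]
      exact h
    have h2 := coeff'_eq_zero n m c _ h1
    rwa [map_sub, sub_eq_zero] at h2
  map_add' x y := by
    obtain ⟨x, rfl⟩ := Ideal.Quotient.mk_surjective x
    obtain ⟨y, rfl⟩ := Ideal.Quotient.mk_surjective y
    exact map_add (coeff' n m c) x y
  map_smul' a x := by
    obtain ⟨x, rfl⟩ := Ideal.Quotient.mk_surjective x
    exact map_smul (coeff' n m c) a x

theorem coeff_mk (c : Fin n → Fin (m + 1)) (p : MvPolynomial (Fin n) A) :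
    coeff n m c (Ideal.Quotient.mk _ p) = MvPolynomial.coeff (ex n m c) p := rfl

theorem prod_s (c : Fin n → Fin (m + 1)) :
    ∏ i, s n m A i ^ (c i : ℕ) = Ideal.Quotient.mk _ (monomial (ex n m c) 1) := by
  rw [monomial_eq, C_1, one_mul, Finsupp.prod_fintype _ _ (fun i => pow_zero _), map_prod]
  refine Finset.prod_congr rfl fun i _ => ?_
  rw [map_pow]
  rfl

theorem coeff_prod (c c' : Fin n → Fin (m + 1)) :
    coeff n m c (∏ i, s n m A i ^ (c' i : ℕ)) = if c = c' then 1 else 0 := by
  classical
  rw [prod_s, coeff_mk, coeff_monomial]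
  by_cases h : c = c'
  · rw [if_pos h, if_pos (by rw [h])]
  · rw [if_neg h, if_neg fun h' => h (ex_injective n m h').symm]

theorem bijective_coeff : Function.Bijective (LinearMap.pi (coeff (A := A) n m)) := by
  classical
  constructor
  · rw [injective_iff_map_eq_zero]
    intro x hx
    obtain ⟨p, rfl⟩ := Ideal.Quotient.mk_surjective x
    rw [Ideal.Quotient.eq_zero_iff_mem, mem_truncIdeal]
    intro d hd
    by_contra h
    push Not at h
    obtain ⟨c, rfl⟩ := mem_ex n m (d := d) (fun i => Nat.le_of_lt_succ (h i))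
    exact mem_support_iff.1 hd (congrFun hx c)
  · intro a
    refine ⟨∑ c, a c • ∏ i, s n m A i ^ (c i : ℕ), ?_⟩
    funext c
    rw [LinearMap.pi_apply, map_sum, Finset.sum_eq_single c]
    · rw [map_smul, coeff_prod, if_pos rfl, smul_eq_mul, mul_one]
    · intro b _ hb
      rw [map_smul, coeff_prod, if_neg hb.symm, smul_zero]
    · intro h
      exact absurd (Finset.mem_univ _) h

/-- the monomial basis -/
noncomputable def basis : Module.Basis (Fin n → Fin (m + 1)) A (TP n m A) :=
  Module.Basis.ofEquivFun (LinearEquiv.ofBijective _ (bijective_coeff n m))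

theorem basis_repr (x : TP n m A) (c : Fin n → Fin (m + 1)) : (basis n m).repr x c = coeff n m c x := rfl

theorem basis_apply (c : Fin n → Fin (m + 1)) : basis (A := A) n m c = ∏ i, s n m A i ^ (c i : ℕ) := by
  classical
  refine (basis n m).ext_elem fun c' => ?_
  rw [Module.Basis.repr_self, basis_repr, coeff_prod, Finsupp.single_apply]
  exact if_congr eq_comm rfl rfl

instance : Module.Free A (TP n m A) := Module.Free.of_basis (basis n m)

instance : Module.Finite A (TP n m A) := Module.Finite.of_basis (basis n m)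

/-- the retraction -/
noncomputable def retr : TP n m A →ₐ[A] A :=
  Ideal.Quotient.liftₐ (truncIdeal n m A) (aeval fun _ => 0) fun p hp => by
    have h1 : truncIdeal n m A ≤ RingHom.ker (aeval (fun _ => 0) : MvPolynomial (Fin n) A →ₐ[A] A) := by
      rw [truncIdeal, Ideal.span_le]
      rintro _ ⟨i, rfl⟩
      simp [RingHom.mem_ker]
    exact h1 hp

theorem retr_mk (p : MvPolynomial (Fin n) A) :
    retr n m (Ideal.Quotient.mk _ p) = aeval (fun _ => (0 : A)) p := rfl

theorem retr_s (i : Fin n) : retr n m (s n m A i) = 0 := by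
  rw [s, retr_mk, aeval_X]

theorem sum_repr (x : TP n m A) : x = ∑ c, coeff n m c x • ∏ i, s n m A i ^ (c i : ℕ) := by
  conv_lhs => rw [← (basis n m).sum_repr x]
  refine Finset.sum_congr rfl fun c _ => ?_
  rw [basis_repr, basis_apply]

theorem ker_retr : RingHom.ker (retr (A := A) n m) = Ideal.span (Set.range (s n m A)) := by
  classical
  apply le_antisymm
  · intro x hx
    have h1 : ∀ c : Fin n → Fin (m + 1), c ≠ 0 → ∏ i, s n m A i ^ (c i : ℕ) ∈ Ideal.span (Set.range (s n m A)) := by
      intro c hc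
      obtain ⟨i, hi⟩ : ∃ i, c i ≠ 0 := by
        by_contra h
        push Not at h
        exact hc (funext h)
      have h0 : s n m A i ∈ Ideal.span (Set.range (s n m A)) := Ideal.subset_span ⟨i, rfl⟩
      have h2 : s n m A i ^ (c i : ℕ) ∈ Ideal.span (Set.range (s n m A)) :=
        Ideal.pow_mem_of_mem _ h0 _ (Nat.pos_of_ne_zero fun h => hi (Fin.ext h))
      rw [← Finset.prod_erase_mul _ _ (Finset.mem_univ i)]
      exact Ideal.mul_mem_left _ _ h2
    have h3 : ∀ c : Fin n → Fin (m + 1), c ≠ 0 → retr n m (∏ i, s n m A i ^ (c i : ℕ)) = 0 := by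
      intro c hc
      obtain ⟨i, hi⟩ : ∃ i, c i ≠ 0 := by
        by_contra h
        push Not at h
        exact hc (funext h)
      rw [map_prod]
      refine Finset.prod_eq_zero (Finset.mem_univ i) ?_
      rw [map_pow, retr_s, zero_pow (fun h => hi (Fin.ext h))]
    have h4 : retr n m x = coeff n m 0 x := by
      conv_lhs => rw [sum_repr n m x]
      rw [map_sum, Finset.sum_eq_single 0]
      · rw [map_smul]
        simp
      · intro c _ hc
        rw [map_smul, h3 c hc, smul_zero]
      · intro h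
        exact absurd (Finset.mem_univ _) h
    rw [sum_repr n m x]
    refine Submodule.sum_mem _ fun c _ => ?_
    by_cases hc : c = 0
    · have h5 : coeff n m c x = 0 := by
        rw [hc, ← h4]
        exact hx
      rw [h5, zero_smul]
      exact Submodule.zero_mem _
    · exact Submodule.smul_of_tower_mem _ _ (h1 c hc)
  · rw [Ideal.span_le]
    rintro _ ⟨i, rfl⟩
    exact retr_s n m i

theorem isNilpotent_ker : IsNilpotent (RingHom.ker (retr (A := A) n m)) := by
  have h1 : (RingHom.ker (retr (A := A) n m)).FG := by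
    rw [ker_retr]
    exact ⟨(Set.finite_range (s n m A)).toFinset, by simp⟩
  rw [Ideal.FG.isNilpotent_iff_le_nilradical h1, ker_retr, Ideal.span_le]
  rintro _ ⟨i, rfl⟩
  exact ⟨m + 1, s_pow n m i⟩

section lift

variable {B : Type v} [CommRing B] [Algebra A B]

/-- **Lifting.** -/
theorem exists_lift_of_formallySmooth (x : Fin n → B)
    (hx : (aeval x : MvPolynomial (Fin n) A →ₐ[A] B).toRingHom.FormallySmooth) (σ : B →ₐ[A] A) :
    ∃ h : B →ₐ[A] TP n m A, (∀ i, h (x i) = algebraMap A _ (σ (x i)) + s n m A i) ∧ (retr n m).comp h = σ := by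
  let P := MvPolynomial (Fin n) A
  let φ : P →ₐ[A] B := aeval x
  let ψ : P →ₐ[A] TP n m A := aeval fun i => algebraMap A _ (σ (x i)) + s n m A i
  let _ : Algebra P B := φ.toRingHom.toAlgebra
  let _ : Algebra P (TP n m A) := ψ.toRingHom.toAlgebra
  have : Algebra.FormallySmooth P B := hx
  let g₀ : B →+* TP n m A ⧸ RingHom.ker (retr (A := A) n m) :=
    (Ideal.Quotient.mk _).comp ((algebraMap A (TP n m A)).comp σ.toRingHom)
  have hg : g₀.comp φ.toRingHom = (Ideal.Quotient.mk (RingHom.ker (retr (A := A) n m))).comp ψ.toRingHom := by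
    refine MvPolynomial.ringHom_ext (fun a => ?_) (fun i => ?_)
    · change Ideal.Quotient.mk _ (algebraMap A (TP n m A) (σ (φ (C a)))) = Ideal.Quotient.mk _ (ψ (C a))
      rw [show φ (C a) = algebraMap A B a from aeval_C _ _, show ψ (C a) = algebraMap A _ a from aeval_C _ _, σ.commutes]
      rfl
    · change Ideal.Quotient.mk _ (algebraMap A (TP n m A) (σ (φ (X i)))) = Ideal.Quotient.mk _ (ψ (X i))
      rw [show φ (X i) = x i from aeval_X _ _, show ψ (X i) = algebraMap A _ (σ (x i)) + s n m A i from aeval_X _ _,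
        Ideal.Quotient.mk_eq_mk_iff_sub_mem, sub_add_cancel_left, Ideal.neg_mem_iff]
      exact retr_s n m i
  let g : B →ₐ[P] TP n m A ⧸ RingHom.ker (retr (A := A) n m) := { g₀ with commutes' := fun p => RingHom.congr_fun hg p }
  let h₀ : B →ₐ[P] TP n m A := Algebra.FormallySmooth.lift _ (isNilpotent_ker n m) g
  have hh : ∀ b, Ideal.Quotient.mk (RingHom.ker (retr (A := A) n m)) (h₀ b) = g₀ b := fun b =>
    Algebra.FormallySmooth.mk_lift _ (isNilpotent_ker n m) g b
  have hP : ∀ p : P, h₀ (φ p) = ψ p := fun p => h₀.commutes p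
  let h : B →ₐ[A] TP n m A := { h₀.toRingHom with
    commutes' := fun a => by
      have h1 := hP (C a)
      rw [show φ (C a) = algebraMap A B a from aeval_C _ _, show ψ (C a) = algebraMap A _ a from aeval_C _ _] at h1
      exact h1 }
  refine ⟨h, fun i => ?_, ?_⟩
  · have h1 := hP (X i)
    rw [show φ (X i) = x i from aeval_X _ _, show ψ (X i) = algebraMap A _ (σ (x i)) + s n m A i from aeval_X _ _] at h1
    exact h1
  · refine AlgHom.ext fun b => ?_
    have h1 : h₀ b - algebraMap A (TP n m A) (σ b) ∈ RingHom.ker (retr (A := A) n m) := by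
      rw [← Ideal.Quotient.mk_eq_mk_iff_sub_mem]
      exact hh b
    have h2 : retr n m (h₀ b - algebraMap A (TP n m A) (σ b)) = 0 := h1
    rw [map_sub, sub_eq_zero, AlgHom.commutes] at h2
    exact h2

/-- **Lifting**, for étale coordinates. -/
theorem exists_lift (x : Fin n → B)
    (hx : (aeval x : MvPolynomial (Fin n) A →ₐ[A] B).toRingHom.Etale) (σ : B →ₐ[A] A) :
    ∃ h : B →ₐ[A] TP n m A, (∀ i, h (x i) = algebraMap A _ (σ (x i)) + s n m A i) ∧ (retr n m).comp h = σ := by
  refine exists_lift_of_formallySmooth n m x ?_ σ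
  let _ : Algebra (MvPolynomial (Fin n) A) B := (aeval x : MvPolynomial (Fin n) A →ₐ[A] B).toRingHom.toAlgebra
  have : Algebra.Etale (MvPolynomial (Fin n) A) B := hx
  exact (inferInstance : Algebra.FormallySmooth (MvPolynomial (Fin n) A) B)

end lift

end K853.Trunc
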