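import Groth.Agent.DeRhamSh.K853.HcSch
import Groth.Agent.DeRhamSh.K853.TruncPoly
import Groth.Agent.DeRhamSh.K494.Steinitz

/-!
# The Taylor expansion of a generalized fraction, and the extraction of its coefficients
-/

set_option autoImplicit false
universe u

open CategoryTheory CategoryTheory.Limits AlgebraicGeometry Opposite TopologicalSpace
open scoped TensorProduct

namespace K853.Taylor

open Groth.Agent K644.Kap K853.HcSch K853.Trunc

section Extract

variable {A : Type u} [CommRing A] {n m : ℕ} {N : Type u} [AddCommGroup N] [Module A N] {H : Type u}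
  [AddCommGroup H] [Module (TP n m A) H]

/-- Extraction of the coefficients. -/
theorem extract (e : N ⊗[A] TP n m A ≃+ H) (ρ : N →+ H) (he : ∀ (x : N) (b : TP n m A), e (x ⊗ₜ b) = b • ρ x)
    (y : (Fin n → Fin (m + 1)) → N) (ν : N)
    (h : ∑ c : Fin n → Fin (m + 1), (∏ i, s n m A i ^ (c i : ℕ)) • ρ (y c) = ρ ν) (c : Fin n → Fin (m + 1))
    (hc : ∃ i, (c i : ℕ) ≠ 0) : y c = 0 := by
  have h1 : ∑ c : Fin n → Fin (m + 1), (y c ⊗ₜ[A] (∏ i, s n m A i ^ (c i : ℕ)) : N ⊗[A] TP n m A) =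
      ν ⊗ₜ 1 := by
    apply e.injective
    rw [map_sum, he, one_smul, ← h]
    exact Finset.sum_congr rfl fun c _ => he _ _
  let φ : N ⊗[A] TP n m A →ₗ[A] N := (TensorProduct.rid A N).toLinearMap ∘ₗ (coeff n m c).lTensor N
  have hφ : ∀ (x : N) (b : TP n m A), φ (x ⊗ₜ b) = coeff n m c b • x := by
    intro x b
    change (TensorProduct.rid A N) ((coeff n m c).lTensor N (x ⊗ₜ b)) = _
    rw [LinearMap.lTensor_tmul, TensorProduct.rid_tmul]
  have h2 := congrArg φ h1
  rw [map_sum, hφ] at h2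
  have h3 : ∀ c' : Fin n → Fin (m + 1), φ (y c' ⊗ₜ[A] (∏ i, s n m A i ^ (c' i : ℕ))) = if c' = c then y c' else 0 := by
    intro c'
    rw [hφ, coeff_prod]
    by_cases hcc : c' = c
    · subst hcc
      simp
    · rw [if_neg hcc, if_neg (fun h => hcc h.symm), zero_smul]
  rw [Finset.sum_congr rfl fun c' _ => h3 c', Finset.sum_ite_eq' Finset.univ c, if_pos (Finset.mem_univ _)] at h2
  have h4 : coeff n m c (1 : TP n m A) = 0 := by
    have h5 := coeff_prod n m (A := A) c (fun _ => 0)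
    simp only [Fin.val_zero, pow_zero, Finset.prod_const_one] at h5
    rw [h5, if_neg]
    rintro rfl
    obtain ⟨i, hi⟩ := hc
    exact hi rfl
  rw [h2, h4, zero_smul]

end Extract

section Expand

variable {X T : Scheme.{u}} (j : T ⟶ X) (F : X.Modules) {n m : ℕ} {c : Cv X.toTopCat} {c' : Cv T.toTopCat}
  (h : Pb j c c') (hn : c.l.length = n) (hn' : c'.l.length = n)

/-- The Taylor expansion. -/
theorem expand (z : Fin n → Γ(X, c.O)) (v : Fin n → Γ(X, dd c.O c.l))
    (hv : ∀ i, (X.presheaf.map (homOfLE (dd_le c.O c.l)).op).hom (z i) * v i = 1)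
    (w : Γ(F, dd c.O c.l)) {R₀ : Type*} [CommRing R₀] (κ : R₀ →+* Coh.Γtop T) (s : Fin n → R₀)
    (hs : ∀ i, s i ^ (m + 1) = 0)
    (m' : Γ((Scheme.Modules.pullback j).obj F, dd c'.O c'.l))
    (hm' : (∏ i, (j.appLE c.O (dd c'.O c'.l) ((dd_le _ _).trans h.hO) (z i) -
        (show Γ(T, dd c'.O c'.l) from Coh.resTop T (op (dd c'.O c'.l)) (κ (s i))))) • m' =
      VarietyB.PullSec.sec j F h.le w) :
    cls ((Scheme.Modules.pullback j).obj F) c' n hn' m' =
      ∑ k : Fin n → Fin (m + 1), κ (∏ i, s i ^ (k i : ℕ)) •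
        CohPull.pullMod j F n (cls F c n hn ((∏ i, v i ^ ((k i : ℕ) + 1)) • w)) := by
  let R := Γ(T, dd c'.O c'.l)
  let κ' : R₀ →+* R := (Coh.resTop T (op (dd c'.O c'.l))).comp κ
  let z' : Fin n → R := fun i => j.appLE c.O (dd c'.O c'.l) ((dd_le _ _).trans h.hO) (z i)
  let v' : Fin n → R := fun i => j.appLE (dd c.O c.l) (dd c'.O c'.l) h.le (v i)
  let s' : Fin n → R := fun i => κ' (s i)
  have hzv : ∀ i, z' i * v' i = 1 := by
    intro i
    have h1 : z' i = j.appLE (dd c.O c.l) (dd c'.O c'.l) h.le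
        ((X.presheaf.map (homOfLE (dd_le c.O c.l)).op).hom (z i)) := by
      change _ = (X.presheaf.map (homOfLE (dd_le c.O c.l)).op ≫ j.appLE (dd c.O c.l) (dd c'.O c'.l) h.le).hom (z i)
      rw [Scheme.Hom.map_appLE]
    rw [h1, ← map_mul, hv, map_one]
  have hss : ∀ i, s' i ^ (m + 1) = 0 := by
    intro i
    change (κ' (s i)) ^ (m + 1) = 0
    rw [← map_pow, hs, map_zero]
  have h1 := K494.Steinitz.prod_expand n m z' v' s' hzv hss
  have h2 : m' = ∑ k : Fin n → Fin (m + 1), (∏ i, s' i ^ (k i : ℕ)) • ((∏ i, v' i ^ ((k i : ℕ) + 1)) •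
      VarietyB.PullSec.sec j F h.le w) := by
    have h3 : m' = (∑ k : Fin n → Fin (m + 1), ∏ i, (s' i ^ (k i : ℕ) * v' i ^ ((k i : ℕ) + 1))) •
        ((∏ i, (z' i - s' i)) • m') := by
      rw [smul_smul, mul_comm, h1, one_smul]
    rw [h3]
    have h4 : (∏ i, (z' i - s' i)) • m' = VarietyB.PullSec.sec j F h.le w := hm'
    rw [h4, Finset.sum_smul]
    refine Finset.sum_congr rfl fun k _ => ?_
    rw [Finset.prod_mul_distrib, mul_smul]
  rw [h2, map_sum]
  refine Finset.sum_congr rfl fun k _ => ?_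
  have h5 : (∏ i, s' i ^ (k i : ℕ)) = κ' (∏ i, s i ^ (k i : ℕ)) := by
    rw [map_prod]
    exact Finset.prod_congr rfl fun i _ => (map_pow _ _ _).symm
  have h6 : (∏ i, v' i ^ ((k i : ℕ) + 1)) • VarietyB.PullSec.sec j F h.le w =
      VarietyB.PullSec.sec j F h.le ((∏ i, v i ^ ((k i : ℕ) + 1)) • w) := by
    rw [VarietyB.PullSec.sec_smul, map_prod]
    congr 1
    exact Finset.prod_congr rfl fun i _ => (map_pow _ _ _).symm
  rw [h6, h5, pullMod_cls j F h n hn hn']
  exact cls_smul _ c' n hn' _ _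

end Expand

end K853.Taylor
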