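import Groth.Agent.DeRhamSh.K853.TaylorExp
import Groth.Agent.DeRhamSh.K853.EtCoord
import Groth.Agent.DeRhamSh.K644.Fr
import Groth.Agent.DeRhamSh.K184.GraphCv

/-!
# The geometry of the Taylor expansion
-/

set_option autoImplicit false
universe u

open CategoryTheory CategoryTheory.Limits AlgebraicGeometry Opposite TopologicalSpace

namespace K853.Taylor

open Groth.Agent K644.Kap K853.HcSch K853.Trunc K644.Fr

section Str

variable {A A' : Type u} [CommRing A] [CommRing A'] {X X' : Scheme.{u}}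

/-- Structure maps and base change. -/
theorem appLE_str (f : X ⟶ Spec (CommRingCat.of A)) (f' : X' ⟶ Spec (CommRingCat.of A')) (φ : A →+* A')
    (g : X' ⟶ X) (w : g ≫ f = f' ≫ Spec.map (CommRingCat.ofHom φ)) (U : X.Opens) (U' : X'.Opens)
    (e : U' ≤ g ⁻¹ᵁ U) (a : A) : g.appLE U U' e (K184.Const.str f U a) = K184.Const.str f' U' (φ a) := by
  have e1 : U ≤ f ⁻¹ᵁ ⊤ := le_top
  have e2 : U' ≤ (g ≫ f) ⁻¹ᵁ ⊤ := le_top
  have e3 : U' ≤ (f' ≫ Spec.map (CommRingCat.ofHom φ)) ⁻¹ᵁ ⊤ := le_top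
  have e4 : U' ≤ f' ⁻¹ᵁ ⊤ := le_top
  have e5 : (⊤ : (Spec (CommRingCat.of A')).Opens) ≤ Spec.map (CommRingCat.ofHom φ) ⁻¹ᵁ ⊤ := le_top
  have h1 : f.appLE ⊤ U e1 ≫ g.appLE U U' e = (g ≫ f).appLE ⊤ U' e2 := Scheme.Hom.appLE_comp_appLE _ _ _ _ _ _ _
  have h2 : (f' ≫ Spec.map (CommRingCat.ofHom φ)).appLE ⊤ U' e3 =
      (Spec.map (CommRingCat.ofHom φ)).appLE ⊤ ⊤ e5 ≫ f'.appLE ⊤ U' e4 :=
    (Scheme.Hom.appLE_comp_appLE _ _ _ _ _ _ _).symm
  have h2' : (Spec.map (CommRingCat.ofHom φ)).appLE ⊤ ⊤ e5 = (Spec.map (CommRingCat.ofHom φ)).appTop :=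
    (Scheme.Hom.app_eq_appLE _).symm
  have h3 : (g ≫ f).appLE ⊤ U' e2 = (f' ≫ Spec.map (CommRingCat.ofHom φ)).appLE ⊤ U' e3 := by
    congr 1
  have h4 := h1.trans (h3.trans h2)
  rw [h2'] at h4
  have h5 := Scheme.ΓSpecIso_inv_naturality (CommRingCat.ofHom φ)
  have h6 : (Scheme.ΓSpecIso (CommRingCat.of A)).inv ≫ f.appLE ⊤ U e1 ≫ g.appLE U U' e =
      CommRingCat.ofHom φ ≫ (Scheme.ΓSpecIso (CommRingCat.of A')).inv ≫ f'.appLE ⊤ U' e4 := by
    rw [h4, ← Category.assoc, ← h5, Category.assoc]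
  exact ConcreteCategory.congr_hom h6 a

/-- The restriction of `Coh.toGlobal`. -/
theorem resTop_toGlobal (f : X ⟶ Spec (CommRingCat.of A)) (U : X.Opens) (a : A) :
    (show Γ(X, U) from Coh.resTop X (op U) (Coh.toGlobal f a)) = K184.Const.str f U a := by
  rw [← K853.EtCoord.secHom_eq]
  rfl

end Str

section Ev

variable {A : Type u} [CommRing A] {X : Scheme.{u}} (s : Spec (CommRingCat.of A) ⟶ X) (V : X.Opens)
  (e : (⊤ : (Spec (CommRingCat.of A)).Opens) ≤ s ⁻¹ᵁ V)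

/-- The value of a function along a section. -/
noncomputable def ev : Γ(X, V) →+* A := (Scheme.ΓSpecIso (CommRingCat.of A)).hom.hom.comp (s.appLE V ⊤ e).hom

theorem spec_ev (hV : IsAffineOpen V) : Spec.map (CommRingCat.ofHom (ev s V e)) ≫ hV.fromSpec = s := by
  have h1 : CommRingCat.ofHom (ev s V e) = s.appLE V ⊤ e ≫ (Scheme.ΓSpecIso (CommRingCat.of A)).hom := rfl
  have h2 := IsAffineOpen.SpecMap_appLE_fromSpec s hV (isAffineOpen_top (Spec (CommRingCat.of A))) e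
  rw [h1, Spec.map_comp, Category.assoc, h2, IsAffineOpen.fromSpec_top, Scheme.isoSpec_Spec_inv, ← Category.assoc,
    ← Spec.map_comp, Iso.inv_hom_id, Spec.map_id, Category.id_comp]

theorem ev_str (f : X ⟶ Spec (CommRingCat.of A)) (hs : s ≫ f = 𝟙 _) (a : A) : ev s V e (K184.Const.str f V a) = a := by
  have h1 := appLE_str f (𝟙 (Spec (CommRingCat.of A))) (RingHom.id A) s (by
    rw [hs]
    simp) V ⊤ e a
  change (Scheme.ΓSpecIso (CommRingCat.of A)).hom (s.appLE V ⊤ e (K184.Const.str f V a)) = a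
  rw [h1]
  change (Scheme.ΓSpecIso (CommRingCat.of A)).hom (((𝟙 (Spec (CommRingCat.of A)) : _ ⟶ _).appLE ⊤ ⊤ le_top)
    ((Scheme.ΓSpecIso (CommRingCat.of A)).inv a)) = a
  have h2 : (𝟙 (Spec (CommRingCat.of A)) : _ ⟶ _).appLE ⊤ ⊤ le_top = 𝟙 _ := by
    simp [Scheme.Hom.appLE]
  rw [h2]
  exact ConcreteCategory.congr_hom (Scheme.ΓSpecIso (CommRingCat.of A)).inv_hom_id a

end Ev

section Retr

variable {A : Type u} [CommRing A] (n m : ℕ)

theorem retr_surjective : Function.Surjective (retr (A := A) n m) := fun a =>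
  ⟨algebraMap A _ a, (retr (A := A) n m).commutes a⟩

theorem retr_comap_surjective (p : PrimeSpectrum (TP n m A)) :
    p ∈ Set.range (PrimeSpectrum.comap (retr (A := A) n m).toRingHom) := by
  rw [range_comap_of_surjective _ (retr (A := A) n m).toRingHom (retr_surjective n m), PrimeSpectrum.mem_zeroLocus]
  obtain ⟨k, hk⟩ := isNilpotent_ker (A := A) n m
  intro x hx
  have h3 : x ^ k ∈ RingHom.ker (retr (A := A) n m) ^ k := Ideal.pow_mem_pow hx k
  rw [hk] at h3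
  have h4 : x ^ k = 0 := h3
  exact p.isPrime.mem_of_pow_mem k (by rw [h4]; exact p.asIdeal.zero_mem)

instance surjective_retr : Surjective (Spec.map (CommRingCat.ofHom (retr (A := A) n m).toRingHom)) :=
  ⟨fun p => retr_comap_surjective n m p⟩

end Retr

section Pts

variable {A : Type u} [CommRing A] {X : Scheme.{u}} {f : X ⟶ Spec (CommRingCat.of A)} {n m : ℕ}
  {s : Spec (CommRingCat.of A) ⟶ X} (hs : s ≫ f = 𝟙 _) {V : X.Opens} (hV : IsAffineOpen V)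
  (e : (⊤ : (Spec (CommRingCat.of A)).Opens) ≤ s ⁻¹ᵁ V)
  {T : Scheme.{u}} {j : T ⟶ X} {q : T ⟶ Spec (CommRingCat.of (TP n m A))}
  (HT : IsPullback j q f (Spec.map (CommRingCat.ofHom (algebraMap A (TP n m A)))))
  {XB : Scheme.{u}} {jB : XB ⟶ X} {qB : XB ⟶ Spec (CommRingCat.of Γ(X, V))}
  (HB : IsPullback jB qB f (Spec.map (CommRingCat.ofHom (K184.Const.str f V))))
  {γ : Spec (CommRingCat.of Γ(X, V)) ⟶ XB} (hγ1 : γ ≫ jB = hV.fromSpec) (hγ2 : γ ≫ qB = 𝟙 _)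
  {h : Γ(X, V) →+* TP n m A} (hr : (retr (A := A) n m).toRingHom.comp h = ev s V e)
  {g : T ⟶ XB} (hg1 : g ≫ jB = j) (hg2 : g ≫ qB = q ≫ Spec.map (CommRingCat.ofHom h))

theorem retr_comp : Spec.map (CommRingCat.ofHom (retr (A := A) n m).toRingHom) ≫
    Spec.map (CommRingCat.ofHom (algebraMap A (TP n m A))) = 𝟙 _ := by
  rw [← Spec.map_comp, ← CommRingCat.ofHom_comp]
  have h1 : (retr (A := A) n m).toRingHom.comp (algebraMap A (TP n m A)) = RingHom.id A := by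
    ext a
    exact (retr (A := A) n m).commutes a
  rw [h1]
  exact Spec.map_id _

/-- The closed immersion `X ⟶ X_TP`. -/
noncomputable def ii : X ⟶ T :=
  HT.lift (𝟙 X) (f ≫ Spec.map (CommRingCat.ofHom (retr (A := A) n m).toRingHom)) (by
    rw [Category.assoc, retr_comp, Category.id_comp, Category.comp_id])

@[reassoc]
theorem ii_j : ii HT ≫ j = 𝟙 X := HT.lift_fst _ _ _

@[reassoc]
theorem ii_q : ii HT ≫ q = f ≫ Spec.map (CommRingCat.ofHom (retr (A := A) n m).toRingHom) := HT.lift_snd _ _ _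

theorem isPullback_ii : IsPullback (ii HT) f q (Spec.map (CommRingCat.ofHom (retr (A := A) n m).toRingHom)) := by
  refine IsPullback.of_right ?_ (ii_q HT) HT
  rw [ii_j, retr_comp]
  exact IsPullback.of_id_fst

instance surjective_ii : Surjective (ii HT) :=
  MorphismProperty.of_isPullback (P := @Surjective) (isPullback_ii HT).flip (surjective_retr n m)

include hs HB hγ1 hγ2 hr hg1 hg2 in
theorem s_ii_g : s ≫ ii HT ≫ g = Spec.map (CommRingCat.ofHom (ev s V e)) ≫ γ := by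
  refine HB.hom_ext ?_ ?_
  · rw [Category.assoc, Category.assoc, Category.assoc, hg1, ii_j, Category.comp_id, hγ1, spec_ev]
  · rw [Category.assoc, Category.assoc, Category.assoc, hg2, ii_q_assoc, reassoc_of% hs, hγ2, Category.comp_id,
      ← Spec.map_comp, ← CommRingCat.ofHom_comp, hr]

include HT hs HB hγ1 hγ2 hr hg1 hg2 in
theorem mem_range_of_mem {p : T} (hp : j p ∈ Set.range s) : g p ∈ Set.range γ := by
  obtain ⟨x, rfl⟩ := (ii HT).surjective p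
  have h1 : j (ii HT x) = x := by
    change (ii HT ≫ j) x = x
    rw [ii_j]
    rfl
  rw [h1] at hp
  obtain ⟨a, rfl⟩ := hp
  refine ⟨Spec.map (CommRingCat.ofHom (ev s V e)) a, ?_⟩
  have h2 := s_ii_g hs hV e HT HB hγ1 hγ2 hr hg1 hg2
  exact (congrArg (fun t : Spec (CommRingCat.of A) ⟶ XB => t a) h2).symm

include hγ1 hγ2 hr hg1 hg2 in
theorem mem_range_of_mem' {p : T} (hp : g p ∈ Set.range γ) : j p ∈ Set.range s := by
  obtain ⟨b, hb⟩ := hp
  have h1 : qB (g p) = b := by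
    rw [← hb]
    change (γ ≫ qB) b = b
    rw [hγ2]
    rfl
  have h2 : qB (g p) = Spec.map (CommRingCat.ofHom h) (q p) := by
    change (g ≫ qB) p = _
    rw [hg2]
    rfl
  have h3 : j p = hV.fromSpec b := by
    rw [← hγ1, ← hg1]
    change jB (g p) = jB (γ b)
    rw [hb]
  obtain ⟨a, ha⟩ := (Spec.map (CommRingCat.ofHom (retr (A := A) n m).toRingHom)).surjective (q p)
  refine ⟨a, ?_⟩
  rw [h3, ← h1, h2, ← ha]
  have h4 : Spec.map (CommRingCat.ofHom (retr (A := A) n m).toRingHom) ≫ Spec.map (CommRingCat.ofHom h) ≫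
      hV.fromSpec = s := by
    rw [← Category.assoc, ← Spec.map_comp, ← CommRingCat.ofHom_comp, hr, spec_ev]
  exact (congrArg (fun t : Spec (CommRingCat.of A) ⟶ X => t a) h4).symm

end Pts

section Fun

variable {A : Type u} [CommRing A] {X : Scheme.{u}} {f : X ⟶ Spec (CommRingCat.of A)} {n m : ℕ}
  {s : Spec (CommRingCat.of A) ⟶ X} {V : X.Opens}
  (e : (⊤ : (Spec (CommRingCat.of A)).Opens) ≤ s ⁻¹ᵁ V)
  {T : Scheme.{u}} {j : T ⟶ X} {q : T ⟶ Spec (CommRingCat.of (TP n m A))}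
  (hj : j ≫ f = q ≫ Spec.map (CommRingCat.ofHom (algebraMap A (TP n m A))))
  {XB : Scheme.{u}} {jB : XB ⟶ X} {qB : XB ⟶ Spec (CommRingCat.of Γ(X, V))}
  {h : Γ(X, V) →+* TP n m A} {g : T ⟶ XB} (hg1 : g ≫ jB = j)
  (hg2 : g ≫ qB = q ≫ Spec.map (CommRingCat.ofHom h))

include hj hg1 hg2 in
/-- The pulled back denominators. -/
theorem pull_den (x : Γ(X, V)) (i : Fin n)
    (hx : h x = algebraMap A _ (ev s V e x) + K853.Trunc.s n m A i)
    {OB : XB.Opens} (hOB : OB ≤ jB ⁻¹ᵁ V) (tB : Γ(XB, OB))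
    (htB : tB = jB.appLE V OB hOB x - K184.Const.str qB OB x)
    {W : X.Opens} (hW : W ≤ V) (z : Γ(X, W)) (hz : z = rr hW x - K184.Const.str f W (ev s V e x))
    {O' : T.Opens} (h1 : O' ≤ g ⁻¹ᵁ OB) (h2 : O' ≤ j ⁻¹ᵁ W) :
    g.appLE OB O' h1 tB = j.appLE W O' h2 z - K184.Const.str q O' (K853.Trunc.s n m A i) := by
  subst hg1
  have e0 : O' ≤ (g ≫ jB) ⁻¹ᵁ V := h2.trans ((g ≫ jB).preimage_mono hW)
  have e1 : g.appLE OB O' h1 (jB.appLE V OB hOB x) = (g ≫ jB).appLE V O' e0 x :=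
    ConcreteCategory.congr_hom (Scheme.Hom.appLE_comp_appLE g jB V OB O' hOB h1) x
  have e2 := appLE_str qB q h g hg2 OB O' h1 x
  have e3 : (g ≫ jB).appLE W O' h2 (rr hW x) = (g ≫ jB).appLE V O' e0 x :=
    ConcreteCategory.congr_hom (Scheme.Hom.map_appLE (g ≫ jB) h2 (homOfLE hW).op) x
  have e4 := appLE_str f q (algebraMap A (TP n m A)) (g ≫ jB) hj W O' h2 (ev s V e x)
  rw [htB, hz, map_sub, map_sub, e1, e2, e3, e4, hx, map_add]
  ring

end Fun

section Core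

theorem forall₂_ofFn {α β : Type*} {n : ℕ} {R : α → β → Prop} {a : Fin n → α} {b : Fin n → β}
    (h : ∀ i, R (a i) (b i)) : List.Forall₂ R (List.ofFn a) (List.ofFn b) := by
  rw [List.forall₂_iff_get]
  refine ⟨by simp, fun i h1 h2 => ?_⟩
  simp only [List.get_ofFn]
  exact h _

variable {A : Type u} [CommRing A] {X : Scheme.{u}} {f : X ⟶ Spec (CommRingCat.of A)} {n m : ℕ}
  {s : Spec (CommRingCat.of A) ⟶ X} (hs : s ≫ f = 𝟙 _) {V : X.Opens} (hV : IsAffineOpen V)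
  (e : (⊤ : (Spec (CommRingCat.of A)).Opens) ≤ s ⁻¹ᵁ V)
  {T : Scheme.{u}} {j : T ⟶ X} {q : T ⟶ Spec (CommRingCat.of (TP n m A))}
  (HT : IsPullback j q f (Spec.map (CommRingCat.ofHom (algebraMap A (TP n m A)))))
  {XB : Scheme.{u}} {jB : XB ⟶ X} {qB : XB ⟶ Spec (CommRingCat.of Γ(X, V))}
  (HB : IsPullback jB qB f (Spec.map (CommRingCat.ofHom (K184.Const.str f V))))
  {γ : Spec (CommRingCat.of Γ(X, V)) ⟶ XB} (hγ1 : γ ≫ jB = hV.fromSpec) (hγ2 : γ ≫ qB = 𝟙 _)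
  {h : Γ(X, V) →+* TP n m A} (hr : (retr (A := A) n m).toRingHom.comp h = ev s V e)
  {g : T ⟶ XB} (hg1 : g ≫ jB = j) (hg2 : g ≫ qB = q ≫ Spec.map (CommRingCat.ofHom h))
  {x : Fin n → Γ(X, V)} (hx : ∀ i, h (x i) = algebraMap A _ (ev s V e (x i)) + K853.Trunc.s n m A i)
  {OB NB : XB.Opens} (hOB : OB ≤ jB ⁻¹ᵁ V) {tB : Fin n → Γ(XB, OB)}
  (htB : ∀ i, tB i = jB.appLE V OB hOB (x i) - K184.Const.str qB OB (x i))
  (hB : Valid OB NB tB) (hNB : ∀ p, p ∉ NB ↔ p ∈ Set.range γ)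
  {W N : X.Opens} (hW : W ≤ V) {z : Fin n → Γ(X, W)}
  (hz : ∀ i, z i = rr hW (x i) - K184.Const.str f W (ev s V e (x i)))
  (hZ : Valid W N z) (hN : ∀ p, p ∉ N ↔ p ∈ Set.range s)

section

variable (g j) (tB) (W)

/-- The open set on `X_TP`. -/
def OO (OB : XB.Opens) : T.Opens := j ⁻¹ᵁ W ⊓ g ⁻¹ᵁ OB

theorem OO_le (OB : XB.Opens) : OO j g W OB ≤ g ⁻¹ᵁ OB := inf_le_right

theorem OO_le' (OB : XB.Opens) : OO j g W OB ≤ j ⁻¹ᵁ W := inf_le_left

/-- The denominators on `X_TP`. -/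
noncomputable def tt (i : Fin n) : Γ(T, OO j g W OB) := g.appLE OB _ (OO_le j g W OB) (tB i)

end

include e HT hg1 hg2 hx hOB htB hW hz in
theorem basicOpen_tt (i : Fin n) : T.basicOpen (tt j g tB W i) = OO j g W OB ⊓ j ⁻¹ᵁ X.basicOpen (z i) := by
  have h1 : tt j g tB W i = _ :=
    pull_den e HT.w hg1 hg2 (x i) i (hx i) hOB (tB i) (htB i) hW (z i) (hz i) (OO_le j g W OB) (OO_le' j g W OB)
  rw [h1, basicOpen_sub_eq _ _ m (by rw [← map_pow, s_pow, map_zero]), Scheme.basicOpen_appLE]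

include hs e HT HB hγ1 hγ2 hr hg1 hg2 hx hOB htB hB hNB hW hz hZ hN in
theorem valid_tt : Valid (OO j g W OB) (j ⁻¹ᵁ N) (tt j g tB W) where
  h1 i := by
    rw [basicOpen_tt e HT hg1 hg2 hx hOB htB hW hz]
    exact inf_le_right.trans (j.preimage_mono (hZ.h1 i))
  h2 := by
    intro p _
    by_cases hp : j p ∈ N
    · exact Or.inr hp
    · refine Or.inl ⟨?_, ?_⟩
      · rcases hZ.h2 (show j p ∈ (⊤ : X.Opens) from trivial) with h1 | h1
        · exact h1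
        · exact absurd h1 hp
      · have h1 := mem_range_of_mem hs hV e HT HB hγ1 hγ2 hr hg1 hg2 ((hN _).1 hp)
        rcases hB.h2 (show g p ∈ (⊤ : XB.Opens) from trivial) with h2 | h2
        · exact h2
        · exact absurd h2 ((hNB _).2 h1)
  h3 p hp hpN := by
    obtain ⟨i, hi⟩ := hZ.h3 (j p) hp.1 hpN
    refine ⟨i, ?_⟩
    rw [basicOpen_tt e HT hg1 hg2 hx hOB htB hW hz]
    exact ⟨hp, hi⟩

include e hV hγ1 hγ2 hr hg1 hg2 hNB hN in
theorem pbB (hT : Valid (OO j g W OB) (j ⁻¹ᵁ N) (tt j g tB W)) : Pb g hB.dat.cv hT.dat.cv where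
  hO := OO_le j g W OB
  hN := by
    intro p hp
    by_contra hcon
    exact (hN _).2 (mem_range_of_mem' hV e hγ1 hγ2 hr hg1 hg2 ((hNB _).1 hcon)) hp
  hl := by
    refine forall₂_ofFn fun i => inf_le_right.trans ?_
    change T.basicOpen (g.appLE OB _ (OO_le j g W OB) (tB i)) ≤ g ⁻¹ᵁ XB.basicOpen (tB i)
    rw [Scheme.basicOpen_appLE]
    exact inf_le_right

include e HT hg1 hg2 hx hOB htB hW hz in
theorem pbZ (hT : Valid (OO j g W OB) (j ⁻¹ᵁ N) (tt j g tB W)) : Pb j hZ.dat.cv hT.dat.cv where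
  hO := OO_le' j g W OB
  hN := le_rfl
  hl := by
    refine forall₂_ofFn fun i => inf_le_right.trans ?_
    change T.basicOpen (tt j g tB W i) ≤ j ⁻¹ᵁ X.basicOpen (z i)
    rw [basicOpen_tt e HT hg1 hg2 hx hOB htB hW hz]
    exact inf_le_right

end Core

end K853.Taylor
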